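import Cfsg.Agent.Lib.Invol.PSp43.Fusion
import Cfsg.Agent.Lib.Invol.ZStar

/-! The centraliser of an involution outside the class of `t`. -/

set_option autoImplicit false
set_option linter.unusedSectionVars false
set_option linter.style.haveILetI false

namespace Cfsg.Agent.Invol.PSp43

variable {G : Type*} [Group G]

/-- An involution acting without fixed points on a subgroup of odd order inverts it. -/
theorem inv_of_fpf [Finite G] {X : Subgroup G} {z : G} (hz : z * z = 1)
    (hX : ∀ x ∈ X, z * x * z⁻¹ ∈ X) (hfix : ∀ x ∈ X, z * x * z⁻¹ = x → x = 1) :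
    ∀ x ∈ X, z * x * z⁻¹ = x⁻¹ := by
  let φ : X →* X :=
    { toFun := fun x => ⟨z * x * z⁻¹, hX x x.2⟩
      map_one' := Subtype.ext (by simp)
      map_mul' := fun x y => Subtype.ext (by
        show z * ((x : G) * y) * z⁻¹ = z * x * z⁻¹ * (z * y * z⁻¹)
        group) }
  have h2 : Function.Involutive φ := fun x => Subtype.ext (by
    show z * (z * (x : G) * z⁻¹) * z⁻¹ = x
    calc _ = z * z * (x : G) * (z * z)⁻¹ := by group
      _ = _ := by rw [hz]; simp)
  have hfp : MonoidHom.FixedPointFree φ := fun x hx => Subtype.ext (hfix x x.2 (congrArg Subtype.val hx))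
  intro x hx
  exact congrArg Subtype.val (congrFun (hfp.coe_eq_inv_of_involutive h2) ⟨x, hx⟩)

theorem five_mult {a b c : G} {X : Subgroup G} (ha : ∀ x ∈ X, a * x * a⁻¹ = x⁻¹) (hb : ∀ x ∈ X, b * x * b⁻¹ = x⁻¹)
    (hc : ∀ x ∈ X, c * x * c⁻¹ = x⁻¹) : ∀ x ∈ X, a * b * c * x * (a * b * c)⁻¹ = x⁻¹ := fun x hx => by
  calc a * b * c * x * (a * b * c)⁻¹ = a * (b * (c * x * c⁻¹) * b⁻¹) * a⁻¹ := by group
    _ = x⁻¹ := by rw [hc x hx, hb _ (inv_mem hx), inv_inv, ha x hx]

namespace Fused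

variable [Finite G] (f : Fused G)

theorem E'_five : f.E' 1 * f.E' 2 * f.E' 7 = f.E' 4 ∧ f.E' 4 * f.E' 11 * f.E' 15 = 1 := by
  refine ⟨?_, ?_⟩
  · rw [f.E'_mul (by norm_num) (by norm_num), f.E'_mul (xor_lt (by norm_num) (by norm_num)) (by norm_num)]
    rfl
  · rw [f.E'_mul (by norm_num) (by norm_num), f.E'_mul (xor_lt (by norm_num) (by norm_num)) (by norm_num),
      ← f.E'_zero]
    rfl

/-- No nontrivial subgroup of odd order is normalised by the elementary abelian group. -/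
theorem five {X : Subgroup G} (hodd : Odd (Nat.card X)) (hX : ∀ y ∈ f.EE, ∀ x ∈ X, y * x * y⁻¹ ∈ X) :
    X = ⊥ := by
  have hord : ∀ x ∈ X, x ^ 4 = 1 → x = 1 := fun x hx e => by
    have h1 := Subgroup.orderOf_dvd_natCard X hx
    have h2 := orderOf_dvd_of_pow_eq_one e
    have h3 : Nat.Coprime (orderOf x) 4 := by
      have : Nat.Coprime (orderOf x) (2 ^ 2) := Nat.Coprime.pow_right 2 (Odd.of_dvd_nat hodd h1).coprime_two_right
      simpa using this
    exact orderOf_eq_one_iff.1 (Nat.eq_one_of_dvd_coprimes h3 dvd_rfl h2)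
  have hinv : ∀ z ∈ qSet, ∀ x ∈ X, f.E' z * x * (f.E' z)⁻¹ = x⁻¹ := by
    intro z hz
    have hz16 := (set_facts.1 z hz).1
    refine inv_of_fpf (f.E'_sq hz16) (hX _ (f.E'_mem hz16)) fun x hx hfix => ?_
    obtain ⟨n, hn, hne⟩ := f.burnside hz16 ((f.conj_iff (eI_lt hz16)).2 (set_facts.1 z hz).2).symm
    have hxt : n⁻¹ * x * n * f.e tI = f.e tI * (n⁻¹ * x * n) := by
      rw [show f.e tI = n⁻¹ * f.E' z * n by rw [← hne]; group]
      have e := mul_inv_eq_iff_eq_mul.1 hfix
      calc n⁻¹ * x * n * (n⁻¹ * f.E' z * n) = n⁻¹ * (x * f.E' z) * n := by group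
        _ = n⁻¹ * (f.E' z * x) * n := by rw [← e]
        _ = _ := by group
    obtain ⟨i, hi, hie⟩ := f.mem_cent hxt
    have hfive := five_ok
    simp only [List.all_eq_true, List.mem_range, Bool.and_eq_true, Bool.or_eq_true, Bool.not_eq_true',
      ← Bool.not_eq_true, beq_iff] at hfive
    obtain ⟨h4, hcom⟩ := hfive i hi
    have hb : ∀ b ∈ [tI, dI, 50], b < 576 ∧ com i b = true := fun b hb => by
      obtain ⟨y, hy, hye⟩ : ∃ y < 16, eI y = b :=
        (show ∀ b ∈ [tI, dI, 50], ∃ y < 16, eI y = b by decide +kernel) b hb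
      have hbl : b < 576 := hye ▸ eI_lt hy
      refine ⟨hbl, (f.com_iff hi hbl).1 ?_⟩
      have hm : n * f.e b * n⁻¹ ∈ f.EE :=
        (Subgroup.mem_normalizer_iff.1 hn _).1 ⟨y, hy, by rw [Setting.E', hye]⟩
      set y' := n * f.e b * n⁻¹ with hy'
      have hye' : y' * y' = 1 := f.EE_sq hm
      have hc : x * y' * x⁻¹ * y' ∈ X := by
        have := mul_mem hx (hX _ hm _ (inv_mem hx))
        rw [inv_eq_of_mul_eq_one_right hye'] at this
        simpa [mul_assoc] using this
      have hp : (x * y' * x⁻¹ * y') ^ 4 = 1 := by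
        have e1 : x * y' * x⁻¹ * y' = n * f.e (mL (cj i b) b) * n⁻¹ := by
          rw [f.mul _ (cj_lt i b) _ hbl, ← f.conj_e hi hbl, hie, hy']; group
        rw [e1, conj_pow, ← f.p4_eq (mL_lt _ _), h4 b hb, f.e_zero]; group
      have e2 := hord _ hc hp
      have e3 : x * y' = y' * x := by
        refine mul_inv_eq_iff_eq_mul.1 ?_
        rw [mul_eq_one_iff_eq_inv.1 e2]
        exact inv_eq_of_mul_eq_one_right hye'
      calc f.e i * f.e b = n⁻¹ * (x * y') * n := by rw [hie, hy']; group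
        _ = n⁻¹ * (y' * x) * n := by rw [e3]
        _ = f.e b * f.e i := by rw [hie, hy']; group
    have h0 : p4 i = 0 := hcom.resolve_left fun e => e fun b hb' => (hb b hb').2
    have hx4 : x ^ 4 = 1 := by
      have : (n⁻¹ * x * n) ^ 4 = 1 := by rw [← hie, ← f.p4_eq hi, h0, f.e_zero]
      rw [show x = n * (n⁻¹ * x * n) * n⁻¹ by group, conj_pow, this]; group
    exact hord x hx hx4
  refine (Subgroup.eq_bot_iff_forall _).2 fun x hx => hord x hx ?_
  have e4 := five_mult (hinv 1 (by decide)) (hinv 2 (by decide)) (hinv 7 (by decide))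
  rw [f.E'_five.1] at e4
  have e0 := five_mult e4 (hinv 11 (by decide)) (hinv 15 (by decide)) x hx
  rw [f.E'_five.2, one_mul, inv_one, mul_one] at e0
  have hxx : x * x = 1 := by nth_rewrite 1 [e0]; exact inv_mul_cancel x
  rw [show x ^ 4 = x * x * (x * x) by simp only [pow_succ, pow_zero, one_mul, mul_assoc], hxx, one_mul]

theorem u_fix_t {g : G} (hgu : g * f.e uI = f.e uI * g) (ht : g * f.e tI * g⁻¹ = f.e tI) : g ∈ f.NE := by
  obtain ⟨i, hi, rfl⟩ := f.mem_cent (mul_inv_eq_iff_eq_mul.1 ht)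
  have := u_cent_ok
  simp only [List.all_eq_true, List.mem_range, Bool.or_eq_true, Bool.not_eq_true', ← Bool.not_eq_true] at this
  obtain ⟨a, -, ha⟩ := f.inN_act hi ((this i hi).resolve_left fun e => e ((f.com_iff hi (by norm_num)).1 hgu))
  exact f.act_mem ha

theorem u_move_s {g : G} (hgu : g * f.e uI = f.e uI * g) (hs : g * f.e tI * g⁻¹ = f.e sI) : g ∈ f.NE := by
  obtain ⟨n, hn⟩ := f.exists_tau
  have hnu : n * f.e uI = f.e uI * n := by
    refine mul_inv_eq_iff_eq_mul.1 ?_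
    rw [← f.E'_three, hn.2 3 (by norm_num)]; rfl
  have hns : n * f.e sI * n⁻¹ = f.e tI := by rw [← f.E'_two, hn.2 2 (by norm_num), ← f.E'_one]; rfl
  have := f.u_fix_t (g := n * g) (by rw [mul_assoc, hgu, ← mul_assoc, hnu, mul_assoc])
    (by rw [conj_conj', hs, hns])
  have h2 := mul_mem (inv_mem (f.act_mem hn)) this
  rwa [inv_mul_cancel_left] at h2

theorem t_mul_u : f.e tI * f.e uI = f.e sI ∧ f.e tI * f.e sI = f.e uI ∧ f.e sI * f.e uI = f.e tI := by
  refine ⟨?_, ?_, ?_⟩ <;>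
    rw [← f.E'_one, ← f.E'_two, ← f.E'_three, f.E'_mul (by norm_num) (by norm_num)] <;> rfl

theorem conj_s : IsConj (f.e sI) (f.e tI) := (f.conj_iff (by norm_num)).2 (Or.inr (by decide +kernel))

/-- The only commuting pairs. -/
theorem commuting_pair {g : G} (hgu : g * f.e uI = f.e uI * g)
    (hc : f.e tI * (g * f.e tI * g⁻¹) = g * f.e tI * g⁻¹ * f.e tI) :
    g * f.e tI * g⁻¹ = f.e tI ∨ g * f.e tI * g⁻¹ = f.e sI := by
  obtain ⟨i, hi, hie⟩ := f.mem_cent hc.symm
  have hyu : g * f.e tI * g⁻¹ * f.e uI = f.e uI * (g * f.e tI * g⁻¹) := by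
    have e := f.e_comm_t (show uI < 576 by norm_num)
    have h2 : g⁻¹ * f.e uI = f.e uI * g⁻¹ := by
      rw [eq_mul_inv_iff_mul_eq, mul_assoc, ← hgu, inv_mul_cancel_left]
    calc g * f.e tI * g⁻¹ * f.e uI = g * (f.e tI * f.e uI) * g⁻¹ := by rw [mul_assoc, h2]; group
      _ = g * f.e uI * f.e tI * g⁻¹ := by rw [← e]; group
      _ = _ := by rw [hgu]; group
  have c1 := (f.conj_iff hi).1 (hie ▸ (isConj_iff.2 ⟨g, rfl⟩ : IsConj (f.e tI) (g * f.e tI * g⁻¹)).symm)
  have c2 := (f.conj_iff (mL_lt i uI)).1 ((show IsConj (f.e sI) (f.e (mL i uI)) from isConj_iff.2 ⟨g, by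
      rw [f.mul i hi _ (by norm_num), hie, ← f.t_mul_u.1]
      calc g * (f.e tI * f.e uI) * g⁻¹ = g * f.e tI * g⁻¹ * (g * f.e uI * g⁻¹) := by group
        _ = _ := by rw [hgu, mul_inv_cancel_right]⟩).symm.trans f.conj_s)
  have := u_pair_ok
  simp only [List.all_eq_true, List.mem_range, Bool.or_eq_true, Bool.not_eq_true', ← Bool.not_eq_true, beq_iff] at this
  rcases this i hi with (((e | e) | e) | e) | e
  · exact absurd ((f.com_iff hi (by norm_num)).1 (hie ▸ hyu)) e
  · exact absurd c1 e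
  · exact absurd c2 e
  · exact Or.inl (hie ▸ e ▸ rfl)
  · exact Or.inr (hie ▸ e ▸ rfl)

/-- A commutator equal to `u` does not occur. -/
theorem no_skew {g : G} (hgu : g * f.e uI = f.e uI * g)
    (he : f.e tI * (g * f.e tI * g⁻¹) * f.e tI = g * f.e tI * g⁻¹ * f.e uI) : False := by
  set t := f.e tI
  set u := f.e uI
  set y := g * t * g⁻¹ with hy
  have ht : t * t = 1 := (Cfsg.Agent.Invol.orderOf_two_iff.1 f.ord_t).1
  have hyy : y * y = 1 := by
    calc y * y = g * (t * t) * g⁻¹ := by rw [hy]; group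
      _ = 1 := by rw [ht]; group
  have htu : u * t = t * u := f.e_comm_t (by norm_num)
  have hyu : y * u = u * y := by
    have h2 : g⁻¹ * u = u * g⁻¹ := by
      rw [eq_mul_inv_iff_mul_eq, mul_assoc, ← hgu, inv_mul_cancel_left]
    calc g * t * g⁻¹ * u = g * (t * u) * g⁻¹ := by rw [mul_assoc, h2]; group
      _ = g * u * t * g⁻¹ := by rw [← htu]; group
      _ = _ := by rw [hgu, hy]; group
  have huu : u * u = 1 := (f.sq_one (by norm_num)).2 (by decide +kernel)
  have e1 : t * y = y * u * t := by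
    calc t * y = t * y * (t * t) := by rw [ht, mul_one]
      _ = t * y * t * t := by group
      _ = y * u * t := by rw [he]
  have hyi : y⁻¹ = y := inv_eq_of_mul_eq_one_right hyy
  have hmove : y * t * y⁻¹ = f.e sI := by
    rw [← f.t_mul_u.1, hyi, mul_assoc, e1]
    calc y * (y * u * t) = y * y * (u * t) := by group
      _ = _ := by rw [hyy, one_mul, htu]
  have hE := f.conj_mem_EE (f.u_move_s hyu hmove) (isConj_iff.2 ⟨g⁻¹, by rw [hy]; group; rfl⟩)
  have hc := f.EE_comm_t hE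
  have e3 : y * u = y := by rw [← he, ← hc, mul_assoc, ht, mul_one]
  exact (Cfsg.Agent.Invol.orderOf_two_iff.1 ((f.sq_iff (show uI < 576 by norm_num)).2 (by decide +kernel))).2
    (mul_left_cancel (e3.trans (mul_one y).symm))

/-- The centraliser of `u` normalises the elementary abelian group. -/
theorem cent_u_le {g : G} (hg : g * f.e uI = f.e uI * g) : g ∈ f.NE := by
  haveI : Fact (Nat.Prime 2) := ⟨Nat.prime_two⟩
  set u := f.e uI with hu
  set R := Subgroup.centralizer ({u} : Set G) with hR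
  have hmem : ∀ {x : G}, x ∈ R ↔ x * u = u * x := Subgroup.mem_centralizer_singleton_iff
  set Z : Subgroup R := Subgroup.zpowers ⟨u, hmem.2 rfl⟩ with hZ
  haveI : Z.Normal := by
    refine ⟨fun x hx r => ?_⟩
    obtain ⟨k, rfl⟩ := Subgroup.mem_zpowers_iff.1 hx
    have : Commute r ⟨u, hmem.2 rfl⟩ := Subtype.ext (hmem.1 r.2)
    rw [(this.zpow_right k).eq, mul_inv_cancel_right]
    exact hx
  have hu2 : orderOf u = 2 := (f.sq_iff (by norm_num)).2 (by decide +kernel)
  have hZc : Nat.card Z = 2 := by rw [hZ, Nat.card_zpowers, Subgroup.orderOf_mk, hu2]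
  have hZval : ∀ {x : R}, x ∈ Z → (x : G) = 1 ∨ (x : G) = u := by
    intro x hx
    obtain ⟨k, rfl⟩ := Subgroup.mem_zpowers_iff.1 hx
    rw [Subgroup.coe_zpow]
    show u ^ k = 1 ∨ u ^ k = u
    rcases Int.even_or_odd' k with ⟨m, rfl | rfl⟩
    · left; rw [zpow_mul, zpow_two, Cfsg.Agent.Invol.mul_self_of_orderOf_two hu2, one_zpow]
    · right; rw [zpow_add_one, zpow_mul, zpow_two, Cfsg.Agent.Invol.mul_self_of_orderOf_two hu2, one_zpow, one_mul]
  have htR : f.e tI ∈ R := hmem.2 (f.e_comm_t (by norm_num)).symm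
  let π := QuotientGroup.mk' Z
  set tb := π ⟨f.e tI, htR⟩ with htb
  have hcls : ∀ x : R, π x = 1 → (x : G) = 1 ∨ (x : G) = u := fun x hx =>
    hZval ((QuotientGroup.eq_one_iff x).1 hx)
  have hiso : Cfsg.IsIsolatedInvolution tb := by
    constructor
    · refine Cfsg.Agent.Invol.orderOf_two_iff.2 ⟨?_, fun e => ?_⟩
      · rw [← map_mul, show (⟨f.e tI, htR⟩ : R) * ⟨f.e tI, htR⟩ = 1 from
          Subtype.ext (Cfsg.Agent.Invol.orderOf_two_iff.1 f.ord_t).1, map_one]
      · rcases hcls _ e with r | r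
        · exact (Cfsg.Agent.Invol.orderOf_two_iff.1 f.ord_t).2 r
        · exact absurd (f.inj _ (by norm_num) _ (by norm_num) r) (by decide)
    intro q hq
    obtain ⟨r, rfl⟩ := QuotientGroup.mk'_surjective Z q
    have hru := hmem.1 r.2
    set y : R := r * ⟨f.e tI, htR⟩ * r⁻¹ with hy
    have hqy : π r * tb * (π r)⁻¹ = π y := by rw [hy, map_mul, map_mul, map_inv]
    rw [hqy] at hq ⊢
    have hyv : (y : G) = (r : G) * f.e tI * (r : G)⁻¹ := rfl
    have hk : π (⟨f.e tI, htR⟩ * y * ⟨f.e tI, htR⟩ * y⁻¹) = 1 := by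
      have h2 : tb * tb = 1 := by
        rw [← map_mul, show (⟨f.e tI, htR⟩ : R) * ⟨f.e tI, htR⟩ = 1 from
          Subtype.ext (Cfsg.Agent.Invol.orderOf_two_iff.1 f.ord_t).1, map_one]
      rw [map_mul, map_mul, map_mul, map_inv]
      show tb * π y * tb * (π y)⁻¹ = 1
      rw [hq.eq, mul_assoc (π y), h2, mul_one, mul_inv_cancel]
    rcases hcls _ hk with e | e
    · have e' : f.e tI * ((r : G) * f.e tI * (r : G)⁻¹) = (r : G) * f.e tI * (r : G)⁻¹ * f.e tI := by
        have ht := (Cfsg.Agent.Invol.orderOf_two_iff.1 f.ord_t).1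
        have e2 : f.e tI * (y : G) * f.e tI = y := mul_inv_eq_one.1 e
        rw [← hyv]
        nth_rewrite 2 [← e2]
        rw [mul_assoc _ (f.e tI) (f.e tI), ht, mul_one]
      rcases f.commuting_pair hru e' with c | c
      · exact congrArg π (Subtype.ext c)
      · refine (QuotientGroup.mk'_eq_mk' Z).2 ⟨⟨u, hmem.2 rfl⟩, Subgroup.mem_zpowers _, Subtype.ext ?_⟩
        show (y : G) * u = f.e tI
        rw [hyv, c, hu, f.t_mul_u.2.2]
    · exfalso
      refine f.no_skew hru ?_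
      have e2 : f.e tI * (y : G) * f.e tI = u * y := mul_inv_eq_iff_eq_mul.1 e
      rw [← hyv, e2]
      exact (hmem.1 y.2).symm
  obtain ⟨N, hN, hodd, hcomm⟩ := Cfsg.Agent.ZStar.exists_odd_normal hiso
  -- the preimage has trivial odd part
  set M := N.comap π with hM
  haveI : M.Normal := hN.comap π
  have hker : Z ≤ M := fun x hx => by
    show π x ∈ N
    rw [show π x = 1 from (QuotientGroup.eq_one_iff x).2 hx]
    exact one_mem N
  set ZM := Z.subgroupOf M with hZM
  haveI : ZM.Normal := Subgroup.Normal.subgroupOf inferInstance M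
  have hcardM : Nat.card ZM = 2 := by rw [Nat.card_congr (Subgroup.subgroupOfEquivOfLe hker).toEquiv, hZc]
  have hidx : ZM.index = Nat.card N := by
    have hs : Function.Surjective (QuotientGroup.mk' Z) := QuotientGroup.mk'_surjective Z
    rw [show ZM.index = Z.relIndex M from rfl]
    conv_lhs => rw [← QuotientGroup.ker_mk' Z]
    rw [Subgroup.relIndex_ker, Subgroup.map_comap_eq_self_of_surjective hs N]
  obtain ⟨K, hK⟩ := Subgroup.exists_right_complement'_of_coprime (N := ZM) (by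
    rw [hcardM, hidx]; exact hodd.coprime_two_left)
  have hKodd : Odd (Nat.card K) := by rw [← hK.symm.index_eq_card, hidx]; exact hodd
  let X : Subgroup G := (K.map M.subtype).map R.subtype
  have hXcard : Nat.card X = Nat.card K := by
    rw [Subgroup.card_map_of_injective Subtype.val_injective, Subgroup.card_map_of_injective Subtype.val_injective]
  have hX : ∀ y ∈ f.EE, ∀ x ∈ X, y * x * y⁻¹ ∈ X := by
    intro y hy x hx
    obtain ⟨x1, ⟨k, hk, rfl⟩, rfl⟩ := hx
    have hyR : y ∈ R := by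
      obtain ⟨z, hz, rfl⟩ := hy
      exact hmem.2 (by rw [hu, ← f.E'_three, f.E'_comm hz (by norm_num)])
    have hxM : (⟨y, hyR⟩ : R) * M.subtype k * (⟨y, hyR⟩ : R)⁻¹ ∈ M := ‹M.Normal›.conj_mem _ k.2 _
    set k' : M := ⟨_, hxM⟩ with hk'
    obtain ⟨⟨⟨a, ha⟩, ⟨b, hb⟩⟩, hab⟩ := hK.2 k'
    have hab' : a * b = k' := hab
    have hk'odd : Odd (orderOf k') := by
      have : orderOf k' = orderOf k := by
        rw [← Subgroup.orderOf_coe, hk', Cfsg.Agent.Invol.orderOf_conj_eq]
        exact Subgroup.orderOf_coe k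
      rw [this]
      exact Odd.of_dvd_nat hKodd (Subgroup.orderOf_dvd_natCard K hk)
    have ha1 : a = 1 := by
      have hac : Commute a b := by
        refine Subtype.ext (Subtype.ext ?_)
        rcases hZval (Subgroup.mem_subgroupOf.1 ha) with e | e
        · show ((a : R) : G) * ((b : R) : G) = ((b : R) : G) * ((a : R) : G)
          rw [e, one_mul, mul_one]
        · show ((a : R) : G) * ((b : R) : G) = ((b : R) : G) * ((a : R) : G)
          rw [e]; exact (hmem.1 (b : R).2).symm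
      have hn : k' ^ (orderOf k' * Nat.card K) = 1 := by rw [pow_mul, pow_orderOf_eq_one, one_pow]
      rw [← hab', hac.mul_pow] at hn
      have hbn : b ^ (orderOf (a * b) * Nat.card K) = 1 := by
        rw [mul_comm, pow_mul]
        have : b ^ Nat.card K = 1 := by
          refine orderOf_dvd_iff_pow_eq_one.1 (Subgroup.orderOf_dvd_natCard K hb)
        rw [this, one_pow]
      rw [hbn, mul_one] at hn
      have h2 : a ^ 2 = 1 := by
        rw [← hcardM]
        exact orderOf_dvd_iff_pow_eq_one.1 (Subgroup.orderOf_dvd_natCard ZM ha)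
      obtain ⟨m, hm⟩ : Odd (orderOf (a * b) * Nat.card K) := Nat.odd_mul.2 ⟨by rw [hab']; exact hk'odd, hKodd⟩
      rwa [hm, pow_succ, pow_mul, h2, one_pow, one_mul] at hn
    refine ⟨M.subtype k', ⟨k', ?_, rfl⟩, rfl⟩
    have hk'b : k' = b := by rw [← hab', ha1, one_mul]
    rw [hk'b]; exact hb
  have hbot := f.five (hXcard.symm ▸ hKodd) hX
  have hN1 : N = ⊥ := by
    refine Subgroup.eq_bot_of_card_eq N ?_
    rw [← hidx, hK.symm.index_eq_card, ← hXcard, hbot, Subgroup.card_bot]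
  -- conclusion
  set gR : R := ⟨g, hmem.2 hg⟩
  have h2 : π gR * tb * (π gR)⁻¹ = tb := by
    have := hcomm (π gR)
    rw [hN1, Subgroup.mem_bot, mul_inv_eq_one, mul_inv_eq_iff_eq_mul] at this
    rw [← this, mul_inv_cancel_right]
  have h3 : π (gR * ⟨f.e tI, htR⟩ * gR⁻¹ * ⟨f.e tI, htR⟩⁻¹) = 1 := by
    rw [map_mul, map_mul, map_mul, map_inv, map_inv]
    show π gR * tb * (π gR)⁻¹ * tb⁻¹ = 1
    rw [h2, mul_inv_cancel]
  rcases hcls _ h3 with e | e
  · exact f.u_fix_t hg (mul_inv_eq_one.1 e)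
  · refine f.u_move_s hg ?_
    have e2 : g * f.e tI * g⁻¹ = u * f.e tI := mul_inv_eq_iff_eq_mul.1 e
    rw [e2, hu, ← f.t_mul_u.1]
    exact f.e_comm_t (by norm_num)

end Fused

end Cfsg.Agent.Invol.PSp43
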