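import Cfsg.Agent.Lib.Invol.PSp43.Facts
import Cfsg.Agent.Lib.Invol.Sylow
import Cfsg.Agent.Lib.Invol.Basic

/-! A group with an involution centralised as in PSp(4, 3): first properties. -/

set_option autoImplicit false
set_option linter.unusedSectionVars false
set_option linter.style.haveILetI false

namespace Cfsg.Agent.Invol.PSp43

/-- The hypothesis: the centraliser of `e tI` is given by the table. -/
structure Setting (G : Type*) [Group G] where
  e : ℕ → G
  inj : ∀ i < 576, ∀ j < 576, e i = e j → i = j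
  mul : ∀ i < 576, ∀ j < 576, e (mL i j) = e i * e j
  cen : ∀ x : G, x * e tI = e tI * x ↔ ∃ i < 576, e i = x

variable {G : Type*} [Group G] (h : Setting G)

theorem beq_iff {a b : ℕ} : Nat.beq a b = true ↔ a = b :=
  ⟨Nat.eq_of_beq_eq_true, fun e => e ▸ Nat.beq_refl a⟩

theorem se_lt (i : ℕ) : se i < 2 := Nat.mod_lt _ (by norm_num)

theorem sa_lt (i : ℕ) : sa i < 24 := (Nat.mod_lt _ (by norm_num : 12 > 0)).trans (by norm_num)

theorem sb_lt (i : ℕ) : sb i < 24 := Nat.mod_lt _ (by norm_num)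

theorem ngs_lt (a : ℕ) : ngs a < 24 := Nat.mod_lt _ (by norm_num)

theorem mt_lt {a b : ℕ} (ha : a < 24) (hb : b < 24) : mt a b < 24 := by
  have := sl_ok
  simp only [List.all_eq_true, List.mem_range, Bool.and_eq_true, decide_eq_true_eq] at this
  exact (this a ha).2 b hb

theorem ivs_lt {a : ℕ} (ha : a < 24) : ivs a < 24 := by
  have := sl_ok
  simp only [List.all_eq_true, List.mem_range, Bool.and_eq_true, decide_eq_true_eq] at this
  exact (this a ha).1

theorem norm_spec {a b e : ℕ} (ha : a < 24) (hb : b < 24) (he : e < 2) :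
    norm a b e < 576 ∧ se (norm a b e) = e := by
  have hble : Nat.ble a 11 = decide (a ≤ 11) := by
    rw [Bool.eq_iff_iff, decide_eq_true_eq]; exact Nat.ble_eq.to_iff
  rw [norm, hble]
  by_cases h : a ≤ 11
  · simp only [h, decide_true, cond_true, se]
    omega
  · simp only [h, decide_false, cond_false, se, ngs]
    omega

theorem mL_spec (i j : ℕ) : mL i j < 576 ∧ se (mL i j) = (se i + se j) % 2 := by
  have h1 := se_lt i
  have h2 := se_lt j
  have ha := sa_lt i; have hb := sb_lt i; have hc := sa_lt j; have hd := sb_lt j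
  cases e : Nat.beq (se i) 0 with
  | true =>
    obtain ⟨r1, r2⟩ := norm_spec (mt_lt ha hc) (mt_lt hb hd) h2
    rw [mL, e, cond_true]
    refine ⟨r1, r2.trans ?_⟩
    rw [beq_iff.1 e]; omega
  | false =>
    obtain ⟨r1, r2⟩ := norm_spec (mt_lt ha hd) (mt_lt hb hc) (show 1 - se j < 2 by omega)
    rw [mL, e, cond_false]
    refine ⟨r1, r2.trans ?_⟩
    have : se i ≠ 0 := fun e' => by rw [e', Nat.beq_refl] at e; exact Bool.noConfusion e
    omega

theorem mL_lt (i j : ℕ) : mL i j < 576 := (mL_spec i j).1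

theorem iL_lt (i : ℕ) : iL i < 576 := by
  rw [iL]
  cases Nat.beq (se i) 0
  · exact (norm_spec (ivs_lt (sb_lt i)) (ivs_lt (sa_lt i)) (by norm_num)).1
  · exact (norm_spec (ivs_lt (sa_lt i)) (ivs_lt (sb_lt i)) (by norm_num)).1

theorem iL_mul {i : ℕ} (hi : i < 576) : mL i (iL i) = 0 := by
  have := inv_ok
  simp only [List.all_eq_true, List.mem_range] at this
  exact beq_iff.1 (this i hi)

theorem cj_lt (k i : ℕ) : cj k i < 576 := mL_lt _ _

theorem eI_lt {x : ℕ} (hx : x < 16) : eI x < 576 := by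
  have := el_ok
  simp only [List.all_eq_true, List.mem_range, Bool.and_eq_true, decide_eq_true_eq] at this
  exact (this x hx).1

theorem eI_mul {x y : ℕ} (hx : x < 16) (hy : y < 16) :
    mL (eI x) (eI y) = eI (Nat.xor x y) ∧ (eI x = eI y → x = y) := by
  have := el_ok
  simp only [List.all_eq_true, List.mem_range, Bool.and_eq_true, decide_eq_true_eq, Bool.or_eq_true,
    Bool.not_eq_true'] at this
  obtain ⟨h1, h2⟩ := (this x hx).2 y hy
  exact ⟨beq_iff.1 h1, fun e => beq_iff.1 (h2.resolve_left (by rw [e, Nat.beq_refl]; simp))⟩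

theorem inEl_iff {i : ℕ} : inEl i = true ↔ ∃ x < 16, eI x = i := by
  simp only [inEl, List.any_eq_true, List.mem_range, beq_iff]

theorem xor_lt {x y : ℕ} (hx : x < 16) (hy : y < 16) : Nat.xor x y < 16 :=
  Nat.xor_lt_two_pow (n := 4) hx hy

theorem cl_spec {i : ℕ} (hi : i < 576) : cl i < 5 ∧ (cl i = 0 ↔ i = 0 ∨ mL i i ≠ 0) ∧ (cl i = 1 ↔ i = tI) := by
  have := cls_ok
  simp only [List.all_eq_true, List.mem_range, Bool.and_eq_true, decide_eq_true_eq, beq_iff_eq] at this
  obtain ⟨⟨h1, h2⟩, h3⟩ := this i hi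
  refine ⟨h1, ?_, ?_⟩
  · rw [← beq_iff, h2, Bool.or_eq_true, beq_iff, Bool.not_eq_true', ← Bool.not_eq_true, beq_iff]
  · rw [← beq_iff, h3, beq_iff]

namespace Setting

theorem lt_t : tI < 576 := by norm_num

theorem e_zero : h.e 0 = 1 := by
  have h0 := h.mul 0 (by norm_num) 0 (by norm_num)
  rw [show mL 0 0 = 0 by decide +kernel] at h0
  simpa using h0

theorem e_inv {i : ℕ} (hi : i < 576) : h.e (iL i) = (h.e i)⁻¹ := by
  have h0 := h.mul i hi (iL i) (iL_lt i)
  rw [iL_mul hi, h.e_zero] at h0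
  exact eq_inv_of_mul_eq_one_right h0.symm

theorem e_eq_iff {i j : ℕ} (hi : i < 576) (hj : j < 576) : h.e i = h.e j ↔ i = j :=
  ⟨h.inj i hi j hj, fun e => e ▸ rfl⟩

theorem e_eq_one {i : ℕ} (hi : i < 576) : h.e i = 1 ↔ i = 0 := by
  rw [← h.e_zero, h.e_eq_iff hi (by norm_num)]

theorem com_iff {i j : ℕ} (hi : i < 576) (hj : j < 576) :
    h.e i * h.e j = h.e j * h.e i ↔ com i j = true := by
  rw [← h.mul i hi j hj, ← h.mul j hj i hi, h.e_eq_iff (mL_lt i j) (mL_lt j i), com, beq_iff]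

theorem conj_e {k i : ℕ} (hk : k < 576) (hi : i < 576) : h.e k * h.e i * (h.e k)⁻¹ = h.e (cj k i) := by
  rw [cj, h.mul _ (mL_lt k i) _ (iL_lt k), h.mul k hk i hi, h.e_inv hk]

theorem e_comm_t {i : ℕ} (hi : i < 576) : h.e i * h.e tI = h.e tI * h.e i := (h.cen _).2 ⟨i, hi, rfl⟩

theorem mem_cent {x : G} (hx : x * h.e tI = h.e tI * x) : ∃ i < 576, h.e i = x := (h.cen x).1 hx

theorem sq_iff {i : ℕ} (hi : i < 576) : orderOf (h.e i) = 2 ↔ cl i ≠ 0 := by
  rw [Cfsg.Agent.Invol.orderOf_two_iff, ← h.mul i hi i hi, h.e_eq_one (mL_lt i i), ne_eq, h.e_eq_one hi, ne_eq,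
    (cl_spec hi).2.1]
  tauto

theorem sq_one {i : ℕ} (hi : i < 576) : h.e i * h.e i = 1 ↔ mL i i = 0 := by
  rw [← h.mul i hi i hi, h.e_eq_one (mL_lt i i)]

theorem p4_eq {i : ℕ} (hi : i < 576) : h.e (p4 i) = h.e i ^ 4 := by
  rw [p4, h.mul _ (mL_lt _ _) _ (mL_lt _ _), h.mul i hi i hi]
  simp only [pow_succ, pow_zero, one_mul, mul_assoc]

theorem p9_eq {i : ℕ} (hi : i < 576) : h.e (p9 i) = h.e i ^ 9 := by
  have hp : p4 i < 576 := mL_lt _ _
  rw [p9, h.mul _ (mL_lt _ _) _ hi, h.mul _ hp _ hp, h.p4_eq hi, ← pow_add, ← pow_succ]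

theorem p64_eq {i : ℕ} (hi : i < 576) : h.e (p64 i) = h.e i ^ 64 := by
  rw [p64, h.p4_eq (show p4 (p4 i) < 576 from mL_lt _ _), h.p4_eq (show p4 i < 576 from mL_lt _ _), h.p4_eq hi,
    ← pow_mul, ← pow_mul]

theorem ord_t : orderOf (h.e tI) = 2 := (h.sq_iff lt_t).2 (by decide +kernel)

/-- The elements of the table are the centraliser. -/
theorem card_cent [Finite G] : Nat.card (Subgroup.centralizer ({h.e tI} : Set G)) = 576 := by
  have hmem : ∀ i : Fin 576, h.e i ∈ Subgroup.centralizer ({h.e tI} : Set G) := fun i =>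
    Subgroup.mem_centralizer_singleton_iff.2 (h.e_comm_t i.2)
  have hb : Function.Bijective fun i : Fin 576 => (⟨h.e i, hmem i⟩ : Subgroup.centralizer ({h.e tI} : Set G)) := by
    refine ⟨fun i j e => Fin.ext (h.inj i i.2 j j.2 (congrArg Subtype.val e)), fun x => ?_⟩
    obtain ⟨i, hi, e⟩ := h.mem_cent (Subgroup.mem_centralizer_singleton_iff.1 x.2)
    exact ⟨⟨i, hi⟩, Subtype.ext e⟩
  rw [← Nat.card_congr (Equiv.ofBijective _ hb), Nat.card_fin]

theorem cls_rep {i : ℕ} (hi : i < 576) (hc : cl i ≠ 0) :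
    IsConj (h.e i) (h.e tI) ∧ cl i = 1 ∨ IsConj (h.e i) (h.e dI) ∧ cl i = 2 ∨
      IsConj (h.e i) (h.e sI) ∧ cl i = 3 ∨ IsConj (h.e i) (h.e uI) ∧ cl i = 4 := by
  have h5 := (cl_spec hi).1
  have := orbit_ok
  simp only [List.all_eq_true, List.any_eq_true, List.mem_range, Bool.and_eq_true, Bool.or_eq_true,
    Bool.not_eq_true', beq_iff, ← Bool.not_eq_true] at this
  obtain ⟨⟨a, b⟩, c⟩ := this i hi
  have mk : ∀ r, (∃ k < 576, cj k i = r) → IsConj (h.e i) (h.e r) := fun r ⟨k, hk, e⟩ =>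
    isConj_iff.2 ⟨h.e k, by rw [h.conj_e hk hi, e]⟩
  have h4 : cl i = 1 ∨ cl i = 2 ∨ cl i = 3 ∨ cl i = 4 :=
    (fun (c : ℕ) (a : c < 5) (b : c ≠ 0) => (by omega : c = 1 ∨ c = 2 ∨ c = 3 ∨ c = 4)) _ h5 hc
  rcases h4 with e | e | e | e
  · exact Or.inl ⟨by rw [(cl_spec hi).2.2.1 e], e⟩
  · exact Or.inr (Or.inl ⟨mk _ (a.resolve_left fun n => n e), e⟩)
  · exact Or.inr (Or.inr (Or.inl ⟨mk _ (b.resolve_left fun n => n e), e⟩))
  · exact Or.inr (Or.inr (Or.inr ⟨mk _ (c.resolve_left fun n => n e), e⟩))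

/-- Exchange of the two outer classes. -/
def tw (i : ℕ) : ℕ := bif Nat.beq (se i) 1 then mL i tI else i

theorem tw_lt {i : ℕ} (hi : i < 576) : tw i < 576 := by
  rw [tw]; cases Nat.beq (se i) 1
  · exact hi
  · exact mL_lt _ _

theorem e_tw {i : ℕ} (hi : i < 576) : h.e (tw i) = h.e i * h.e tI ^ se i := by
  have := se_lt i
  rw [tw]
  cases e : Nat.beq (se i) 1 with
  | true => rw [beq_iff.1 e, pow_one, cond_true, h.mul i hi _ lt_t]
  | false =>
    have : se i = 0 := by
      have h2 : se i = 0 ∨ se i = 1 := by omega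
      rcases h2 with r | r
      · exact r
      · rw [r, Nat.beq_refl] at e; exact Bool.noConfusion e
    rw [this, pow_zero, mul_one, cond_false]

/-- The twisted setting. -/
def twist : Setting G where
  e i := h.e (tw i)
  inj i hi j hj e := by
    have h1 : se i = se j := by
      have e' : tw i = tw j := h.inj _ (tw_lt hi) _ (tw_lt hj) e
      have key : ∀ k < 576, se (tw k) = se k := fun k _ => by
        rw [tw]; cases e : Nat.beq (se k) 1
        · rfl
        · rw [cond_true, (mL_spec k tI).2, show se tI = 0 from rfl]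
          have := se_lt k; omega
      rw [← key i hi, ← key j hj, e']
    rw [h.e_tw hi, h.e_tw hj, h1] at e
    exact h.inj i hi j hj (mul_right_cancel e)
  mul i hi j hj := by
    rw [h.e_tw (mL_lt i j), h.e_tw hi, h.e_tw hj, h.mul i hi j hj, (mL_spec i j).2]
    have hcm : ∀ n : ℕ, Commute (h.e tI ^ n) (h.e j) := fun n => Commute.pow_left (h.e_comm_t hj).symm n
    rw [mul_assoc (h.e i) (h.e tI ^ se i), ← mul_assoc (h.e tI ^ se i), (hcm (se i)).eq, mul_assoc (h.e j),
      ← pow_add, ← mul_assoc]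
    congr 1
    rw [← pow_mod_orderOf (h.e tI) (se i + se j), h.ord_t]
  cen x := by
    rw [show h.e (tw tI) = h.e tI from congrArg h.e (by decide +kernel)]
    constructor
    · intro hx
      obtain ⟨i, hi, rfl⟩ := h.mem_cent hx
      refine ⟨tw i, tw_lt hi, ?_⟩
      have key : ∀ k < 576, tw (tw k) = k := fun k hk => by
        apply h.inj _ (tw_lt (tw_lt hk)) _ hk
        rw [h.e_tw (tw_lt hk), h.e_tw hk, mul_assoc, ← pow_add]
        have : (se k + se (tw k)) % 2 = 0 := by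
          rw [tw]; cases e : Nat.beq (se k) 1
          · rw [cond_false]; omega
          · rw [cond_true, (mL_spec k tI).2, show se tI = 0 from rfl]
            have := se_lt k; omega
        rw [← pow_mod_orderOf, h.ord_t, this, pow_zero, mul_one]
      rw [key i hi]
    · rintro ⟨i, hi, rfl⟩
      exact h.e_comm_t (tw_lt hi)

theorem twist_t : h.twist.e tI = h.e tI := congrArg h.e (by decide +kernel)

theorem twist_s : h.twist.e sI = h.e uI := congrArg h.e (by decide +kernel)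

end Setting

end Cfsg.Agent.Invol.PSp43
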