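import Cfsg.Agent.Lib.Invol.PSp43.Local

/-! The action of the normaliser on the elementary abelian group. -/

set_option autoImplicit false
set_option linter.unusedSectionVars false
set_option linter.style.haveILetI false

namespace Cfsg.Agent.Invol.PSp43

theorem xor_cases : ∀ x < 16, ∀ g : Bool,
    (bif g then x else 0) < 16 := fun x hx g => by
  cases g
  · show (0 : ℕ) < 16; norm_num
  · exact hx

theorem ap_facts : (∀ x < 16, Nat.xor (Nat.xor (bif Nat.beq (x % 2) 1 then 1 else 0) (bif Nat.beq (x / 2 % 2) 1 then 2 else 0))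
    (Nat.xor (bif Nat.beq (x / 4 % 2) 1 then 4 else 0) (bif Nat.beq (x / 8 % 2) 1 then 8 else 0)) = x) := by
  decide +kernel

theorem leq_iff {g k : Lin} : leq g k = true ↔ g = k := by
  obtain ⟨a, b, c, d⟩ := g
  obtain ⟨a', b', c', d'⟩ := k
  simp only [leq, Bool.and_eq_true, beq_iff, Prod.mk.injEq, and_assoc]

variable {G : Type*} [Group G] (h : Setting G)

namespace Setting

theorem inS_iL {i : ℕ} (hi : i < 576) (hs : inS i = true) : inS (iL i) = true := by
  have := syl_ok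
  simp only [List.all_eq_true, List.mem_range, Bool.or_eq_true, Bool.not_eq_true', Bool.and_eq_true,
    ← Bool.not_eq_true] at this
  exact ((this i hi).resolve_left fun n => n hs).1

theorem inS_mL {i j : ℕ} (hi : i < 576) (hs : inS i = true) (hj : j < 576) (hs' : inS j = true) :
    inS (mL i j) = true := by
  have := syl_ok
  simp only [List.all_eq_true, List.mem_range, Bool.or_eq_true, Bool.not_eq_true', Bool.and_eq_true,
    ← Bool.not_eq_true] at this
  exact (((this i hi).resolve_left fun n => n hs).2 j hj).resolve_left fun n => n hs'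

/-- The Sylow subgroup of the table. -/
def SS : Subgroup G where
  carrier := {x | ∃ i < 576, inS i = true ∧ h.e i = x}
  one_mem' := ⟨0, by norm_num, by decide +kernel, h.e_zero⟩
  mul_mem' := by
    rintro _ _ ⟨i, hi, hs, rfl⟩ ⟨j, hj, hs', rfl⟩
    exact ⟨mL i j, mL_lt i j, inS_mL hi hs hj hs', h.mul i hi j hj⟩
  inv_mem' := by
    rintro _ ⟨i, hi, hs, rfl⟩
    exact ⟨iL i, iL_lt i, inS_iL hi hs, h.e_inv hi⟩

theorem card_SS [Finite G] : Nat.card h.SS = 64 := by
  let L := (List.range 576).filter inS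
  have hL : L.Nodup := List.nodup_range.filter _
  have hmem : ∀ i : L.toFinset, h.e i ∈ h.SS := fun i => by
    obtain ⟨h1, h2⟩ := List.mem_filter.1 (List.mem_toFinset.1 i.2)
    exact ⟨i, List.mem_range.1 h1, h2, rfl⟩
  have hb : Function.Bijective fun i : L.toFinset => (⟨h.e i, hmem i⟩ : h.SS) := by
    refine ⟨fun i j e => Subtype.ext (h.inj i ?_ j ?_ (congrArg Subtype.val e)), fun x => ?_⟩
    · exact List.mem_range.1 (List.mem_filter.1 (List.mem_toFinset.1 i.2)).1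
    · exact List.mem_range.1 (List.mem_filter.1 (List.mem_toFinset.1 j.2)).1
    · obtain ⟨i, hi, hs, e⟩ := x.2
      exact ⟨⟨i, List.mem_toFinset.2 (List.mem_filter.2 ⟨List.mem_range.2 hi, hs⟩)⟩, Subtype.ext e⟩
  rw [← Nat.card_congr (Equiv.ofBijective _ hb), Nat.card_eq_fintype_card, Fintype.card_coe,
    List.toFinset_card_of_nodup hL, show L.length = (List.range 576).countP inS from (List.countP_eq_length_filter).symm,
    syl_count]

theorem SS_comm_t {x : G} (hx : x ∈ h.SS) : x * h.e tI = h.e tI * x := by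
  obtain ⟨i, hi, -, rfl⟩ := hx
  exact h.e_comm_t hi

theorem pgroup_SS [Finite G] : IsPGroup 2 h.SS := IsPGroup.of_card (n := 6) (by rw [h.card_SS]; norm_num)

/-- It is a Sylow subgroup. -/
theorem exists_sylow [Finite G] : ∃ P : Sylow 2 G, (P : Subgroup G) = h.SS := by
  haveI : Fact (Nat.Prime 2) := ⟨Nat.prime_two⟩
  obtain ⟨P, hP⟩ := h.pgroup_SS.exists_le_sylow
  refine ⟨P, le_antisymm ?_ hP⟩
  by_contra hne
  have hnorm : ∀ p ∈ (P : Subgroup G), p ∈ Subgroup.normalizer (h.SS : Set G) → p ∈ h.SS := by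
    intro p hp hn
    have hz : p * h.e tI * p⁻¹ = h.e tI := by
      have hmem : p * h.e tI * p⁻¹ ∈ h.SS :=
        (Subgroup.mem_normalizer_iff.1 hn _).1 ⟨tI, by norm_num, by decide +kernel, rfl⟩
      obtain ⟨i, hi, hs, hie⟩ := hmem
      have := syl_center
      simp only [List.all_eq_true, List.any_eq_true, List.mem_range, Bool.or_eq_true, Bool.not_eq_true',
        beq_iff, Bool.and_eq_true, ← Bool.not_eq_true] at this
      rcases this i hi with ((e | e) | e) | ⟨j, hj, hsj, hnc⟩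
      · exact absurd hs e
      · exfalso
        rw [e, h.e_zero, eq_comm, conj_eq_one_iff] at hie
        exact (Cfsg.Agent.Invol.orderOf_two_iff.1 h.ord_t).2 hie
      · rw [← hie, e]
      · exfalso
        refine hnc ?_
        rw [← h.com_iff hi hj, hie]
        have hq : p⁻¹ * h.e j * p ∈ h.SS := by
          have := (Subgroup.mem_normalizer_iff.1 (inv_mem hn) (h.e j)).1 ⟨j, hj, hsj, rfl⟩
          simpa using this
        have hc := h.SS_comm_t hq
        calc p * h.e tI * p⁻¹ * h.e j = p * (h.e tI * (p⁻¹ * h.e j * p)) * p⁻¹ := by group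
          _ = p * (p⁻¹ * h.e j * p * h.e tI) * p⁻¹ := by rw [hc]
          _ = _ := by group
    obtain ⟨i, hi, rfl⟩ := h.mem_cent (mul_inv_eq_iff_eq_mul.1 hz)
    have hiC : ∀ x ∈ h.SS, x ∈ Subgroup.centralizer ({h.e tI} : Set G) := fun x hx =>
      Subgroup.mem_centralizer_singleton_iff.2 (h.SS_comm_t hx)
    let H := h.SS ⊔ Subgroup.zpowers (h.e i)
    have hHC : H ≤ Subgroup.centralizer ({h.e tI} : Set G) :=
      sup_le hiC ((Subgroup.zpowers_le).2 (Subgroup.mem_centralizer_singleton_iff.2 (h.e_comm_t hi)))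
    have hHP : H ≤ P := sup_le hP ((Subgroup.zpowers_le).2 hp)
    obtain ⟨k, hk⟩ := IsPGroup.iff_card.1 (P.isPGroup'.to_le hHP)
    have hd : 2 ^ k ∣ 576 := by
      rw [← hk, ← h.card_cent]; exact Subgroup.card_dvd_of_le hHC
    have hk6 : k ≤ 6 := by
      by_contra hlt
      have : 2 ^ 7 ∣ 576 := (pow_dvd_pow 2 (by omega)).trans hd
      norm_num at this
    have : h.SS = H := Subgroup.eq_of_le_of_card_ge le_sup_left (by
      rw [hk, h.card_SS]
      calc 2 ^ k ≤ 2 ^ 6 := Nat.pow_le_pow_right (by norm_num) hk6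
        _ = 64 := by norm_num)
    rw [this]
    exact Subgroup.mem_sup_right (Subgroup.mem_zpowers _)
  -- normalisers grow
  haveI := P.isPGroup'.isNilpotent
  set K := h.SS.subgroupOf (P : Subgroup G) with hK
  have hK' : K < ⊤ := lt_top_iff_ne_top.2 fun e => hne fun x hx => by
    have : (⟨x, hx⟩ : (P : Subgroup G)) ∈ K := e ▸ Subgroup.mem_top _
    exact this
  have hlt := Group.normalizerCondition_of_isNilpotent (G := (P : Subgroup G)) K hK'
  obtain ⟨⟨p, hp⟩, hpn, hpk⟩ := SetLike.exists_of_lt hlt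
  refine hpk (hnorm p hp (Subgroup.mem_normalizer_iff.2 fun x => ?_))
  constructor
  · intro hx
    exact (Subgroup.mem_normalizer_iff.1 hpn ⟨x, hP hx⟩).1 hx
  · intro hx
    have hxP : x ∈ (P : Subgroup G) := by
      have := mul_mem (mul_mem (inv_mem hp) (hP hx)) hp
      convert this using 1; group
    exact (Subgroup.mem_normalizer_iff.1 hpn ⟨x, hxP⟩).2 hx

/-- `n` normalises and acts by `g`. -/
def Act (n : G) (g : Lin) : Prop :=
  (g.1 < 16 ∧ g.2.1 < 16 ∧ g.2.2.1 < 16 ∧ g.2.2.2 < 16) ∧ ∀ x < 16, n * h.E' x * n⁻¹ = h.E' (ap g x)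

theorem act_of_basis {n : G} {g : Lin} (hg : g.1 < 16 ∧ g.2.1 < 16 ∧ g.2.2.1 < 16 ∧ g.2.2.2 < 16)
    (h1 : n * h.E' 1 * n⁻¹ = h.E' g.1) (h2 : n * h.E' 2 * n⁻¹ = h.E' g.2.1)
    (h4 : n * h.E' 4 * n⁻¹ = h.E' g.2.2.1) (h8 : n * h.E' 8 * n⁻¹ = h.E' g.2.2.2) : h.Act n g := by
  refine ⟨hg, fun x hx => ?_⟩
  have hstep : ∀ (b : Bool) {a v : ℕ}, n * h.E' a * n⁻¹ = h.E' v →
      n * h.E' (bif b then a else 0) * n⁻¹ = h.E' (bif b then v else 0) := fun b a v e => by
    cases b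
    · simp only [cond_false, h.E'_zero, mul_one, mul_inv_cancel]
    · exact e
  have hmul : ∀ {a b a' b' : ℕ}, a < 16 → b < 16 → a' < 16 → b' < 16 → n * h.E' a * n⁻¹ = h.E' a' →
      n * h.E' b * n⁻¹ = h.E' b' → n * h.E' (Nat.xor a b) * n⁻¹ = h.E' (Nat.xor a' b') := by
    intro a b a' b' ha hb ha' hb' e e'
    rw [← h.E'_mul ha hb, ← h.E'_mul ha' hb', ← e, ← e']; group
  conv_lhs => rw [← ap_facts x hx]
  obtain ⟨g1, g2, g4, g8⟩ := hg
  exact hmul (xor_lt (xor_cases _ (by norm_num) _) (xor_cases _ (by norm_num) _))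
    (xor_lt (xor_cases _ (by norm_num) _) (xor_cases _ (by norm_num) _))
    (xor_lt (xor_cases _ g1 _) (xor_cases _ g2 _)) (xor_lt (xor_cases _ g4 _) (xor_cases _ g8 _))
    (hmul (xor_cases _ (by norm_num) _) (xor_cases _ (by norm_num) _) (xor_cases _ g1 _) (xor_cases _ g2 _)
      (hstep _ h1) (hstep _ h2))
    (hmul (xor_cases _ (by norm_num) _) (xor_cases _ (by norm_num) _) (xor_cases _ g4 _) (xor_cases _ g8 _)
      (hstep _ h4) (hstep _ h8))

theorem act_basis {n : G} {g : Lin} (ha : h.Act n g) :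
    n * h.E' 1 * n⁻¹ = h.E' g.1 ∧ n * h.E' 2 * n⁻¹ = h.E' g.2.1 ∧
      n * h.E' 4 * n⁻¹ = h.E' g.2.2.1 ∧ n * h.E' 8 * n⁻¹ = h.E' g.2.2.2 := by
  obtain ⟨a, b, c, d⟩ := g
  have k : ap (a, b, c, d) 1 = a ∧ ap (a, b, c, d) 2 = b ∧ ap (a, b, c, d) 4 = c ∧ ap (a, b, c, d) 8 = d := by
    refine ⟨?_, ?_, ?_, ?_⟩ <;> simp [ap, Nat.beq]
  refine ⟨?_, ?_, ?_, ?_⟩ <;>
    first
      | (rw [ha.2 1 (by norm_num), k.1])
      | (rw [ha.2 2 (by norm_num), k.2.1])
      | (rw [ha.2 4 (by norm_num), k.2.2.1])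
      | (rw [ha.2 8 (by norm_num), k.2.2.2])

theorem act_unique {n : G} {g k : Lin} (ha : h.Act n g) (hb : h.Act n k) : g = k := by
  obtain ⟨a1, a2, a4, a8⟩ := h.act_basis ha
  obtain ⟨b1, b2, b4, b8⟩ := h.act_basis hb
  obtain ⟨a, b, c, d⟩ := g
  obtain ⟨a', b', c', d'⟩ := k
  obtain ⟨⟨la, lb, lc, ld⟩, -⟩ := ha
  obtain ⟨⟨la', lb', lc', ld'⟩, -⟩ := hb
  rw [Prod.mk.injEq, Prod.mk.injEq, Prod.mk.injEq]
  exact ⟨h.E'_inj la la' (a1.symm.trans b1), h.E'_inj lb lb' (a2.symm.trans b2),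
    h.E'_inj lc lc' (a4.symm.trans b4), h.E'_inj ld ld' (a8.symm.trans b8)⟩

theorem act_one : h.Act 1 lid :=
  ⟨by decide, fun x hx => by rw [← ap_basis x hx]; group⟩

theorem act_mul {n m : G} {g k : Lin} (ha : h.Act n g) (hb : h.Act m k) : h.Act (n * m) (cmp g k) := by
  obtain ⟨l1, l2, l4, l8⟩ := hb.1
  obtain ⟨b1, b2, b4, b8⟩ := h.act_basis hb
  refine h.act_of_basis ⟨ap_lt ha.1 _, ap_lt ha.1 _, ap_lt ha.1 _, ap_lt ha.1 _⟩ ?_ ?_ ?_ ?_ <;>
    rw [mul_inv_rev, show ∀ y : G, n * m * y * (m⁻¹ * n⁻¹) = n * (m * y * m⁻¹) * n⁻¹ from fun y => by group]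
  · rw [b1, ha.2 _ l1]; rfl
  · rw [b2, ha.2 _ l2]; rfl
  · rw [b4, ha.2 _ l4]; rfl
  · rw [b8, ha.2 _ l8]; rfl

/-- The normaliser. -/
def NE : Subgroup G := Subgroup.normalizer (h.EE : Set G)

theorem exists_act {n : G} (hn : n ∈ h.NE) : ∃ g, h.Act n g := by
  have key : ∀ x < 16, ∃ y < 16, h.E' y = n * h.E' x * n⁻¹ := fun x hx =>
    (Subgroup.mem_normalizer_iff.1 hn _).1 (h.E'_mem hx)
  obtain ⟨a, la, ea⟩ := key 1 (by norm_num)
  obtain ⟨b, lb, eb⟩ := key 2 (by norm_num)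
  obtain ⟨c, lc, ec⟩ := key 4 (by norm_num)
  obtain ⟨d, ld, ed⟩ := key 8 (by norm_num)
  exact ⟨(a, b, c, d), h.act_of_basis ⟨la, lb, lc, ld⟩ ea.symm eb.symm ec.symm ed.symm⟩

theorem act_mem [Finite G] {n : G} {g : Lin} (ha : h.Act n g) : n ∈ h.NE := by
  refine Subgroup.mem_normalizer_iff.2 ?_
  have hmap : ∀ y ∈ h.EE, n * y * n⁻¹ ∈ h.EE := by
    rintro y ⟨x, hx, rfl⟩
    rw [ha.2 x hx]
    exact h.E'_mem (ap_lt ha.1 x)
  have heq : h.EE.map (MulAut.conj n).toMonoidHom = h.EE := by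
    refine Subgroup.eq_of_le_of_card_ge ?_ (by
      rw [Subgroup.card_map_of_injective (MulAut.conj n).injective])
    rintro _ ⟨y, hy, rfl⟩
    exact hmap y hy
  intro y
  refine ⟨hmap y, fun hy => ?_⟩
  rw [← heq] at hy
  obtain ⟨z, hz, hze⟩ := hy
  rwa [← (MulAut.conj n).injective hze]

theorem act_bij {n : G} {g : Lin} (ha : h.Act n g) : bij g = true := by
  have hinj : ∀ x < 16, ∀ y < 16, ap g x = ap g y → x = y := fun x hx y hy e => by
    refine h.E'_inj hx hy (mul_left_cancel (a := n) (mul_right_cancel (b := n⁻¹) ?_))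
    rw [ha.2 x hx, ha.2 y hy, e]
  obtain ⟨a, b, c, d⟩ := g
  obtain ⟨la, lb, lc, ld⟩ := ha.1
  have v : ∀ x, ap (a, b, c, d) x = Nat.xor (Nat.xor (bif Nat.beq (x % 2) 1 then a else 0) (bif Nat.beq (x / 2 % 2) 1 then b else 0))
      (Nat.xor (bif Nat.beq (x / 4 % 2) 1 then c else 0) (bif Nat.beq (x / 8 % 2) 1 then d else 0)) := fun x => rfl
  have x0 : ∀ y, Nat.xor 0 y = y := Nat.zero_xor
  have y0 : ∀ y, Nat.xor y 0 = y := Nat.xor_zero
  have e0 : ap (a, b, c, d) 0 = 0 := by simp [v, Nat.beq, x0]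
  have e1 : ap (a, b, c, d) 1 = a := by simp [v, Nat.beq, x0, y0]
  have e2 : ap (a, b, c, d) 2 = b := by simp [v, Nat.beq, x0, y0]
  have e3 : ap (a, b, c, d) 3 = Nat.xor a b := by simp [v, Nat.beq, x0, y0]
  have e4 : ap (a, b, c, d) 4 = c := by simp [v, Nat.beq, x0, y0]
  have e5 : ap (a, b, c, d) 5 = Nat.xor a c := by simp [v, Nat.beq, x0, y0]
  have e6 : ap (a, b, c, d) 6 = Nat.xor b c := by simp [v, Nat.beq, x0, y0]
  have e7 : ap (a, b, c, d) 7 = Nat.xor (Nat.xor a b) c := by simp [v, Nat.beq, x0, y0]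
  have e8 : ap (a, b, c, d) 8 = d := by simp [v, Nat.beq, x0, y0]
  have ne : ∀ {x y p q : ℕ}, ap (a, b, c, d) x = p → ap (a, b, c, d) y = q → x < 16 → y < 16 → x ≠ y →
      ¬ (Nat.beq p q = true) := fun ex ey hx hy hxy e =>
    hxy (hinj _ hx _ hy (ex.trans ((beq_iff.1 e).trans ey.symm)))
  simp only [bij, Bool.and_eq_true, Bool.not_eq_true', ← Bool.not_eq_true, List.any_cons, List.any_nil,
    Bool.or_eq_true, Nat.ble_eq]
  refine ⟨⟨⟨⟨?_, ne e2 e0 (by norm_num) (by norm_num) (by norm_num)⟩,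
    ne e2 e1 (by norm_num) (by norm_num) (by norm_num)⟩, ?_⟩, ?_⟩
  · rcases Nat.eq_zero_or_pos a with r | r
    · exact absurd (hinj 1 (by norm_num) 0 (by norm_num) (by rw [e1, e0, r])) (by norm_num)
    · exact r
  · rintro (r | r | r | r | r)
    · exact ne e4 e0 (by norm_num) (by norm_num) (by norm_num) r
    · exact ne e4 e1 (by norm_num) (by norm_num) (by norm_num) r
    · exact ne e4 e2 (by norm_num) (by norm_num) (by norm_num) r
    · exact ne e4 e3 (by norm_num) (by norm_num) (by norm_num) r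
    · exact absurd r (by simp)
  · rintro (r | r | r | r | r | r | r | r | r)
    · exact ne e8 e0 (by norm_num) (by norm_num) (by norm_num) r
    · exact ne e8 e1 (by norm_num) (by norm_num) (by norm_num) r
    · exact ne e8 e2 (by norm_num) (by norm_num) (by norm_num) r
    · exact ne e8 e3 (by norm_num) (by norm_num) (by norm_num) r
    · exact ne e8 e4 (by norm_num) (by norm_num) (by norm_num) r
    · exact ne e8 e5 (by norm_num) (by norm_num) (by norm_num) r
    · exact ne e8 e6 (by norm_num) (by norm_num) (by norm_num) r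
    · exact ne e8 e7 (by norm_num) (by norm_num) (by norm_num) r
    · exact absurd r (by simp)

end Setting

end Cfsg.Agent.Invol.PSp43
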