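import Mathlib
import Cfsg.Agent.Lib.Spor.Coset

/-! Tables for the centraliser of a central involution of PSp(4, 3): pairs of elements of SL(2, 3)
up to a common sign, extended by the exchange of the two factors. -/

set_option autoImplicit false

namespace Cfsg.Agent.Invol.PSp43

open Cfsg.Agent.Spor.Coset (fld)

/-- the entries of the elements of SL(2, 3), row by row -/
def slTbl : ℕ := 0x164a303b2e174b3e4f3515381125452241102a1f29430f1c

/-- multiplication in SL(2, 3) -/
def mtTbl : ℕ := 0x89a0768983aaa8b2c8930b80f4d91784ca663c22a5d2a21e3200dae42eb63c2451b1c15d2c9990d17804dba155314e4104605256894670735ecb56f4131a3552ab342277002fb2137910b378582ba68a996061b40e5d5163c49263861a5969848e5009ed42af521a7108c404ad4829cc46bdccaded48ce50a554b844c763443426d721653005cf4d2ea2c2660b1e2aa176890f26806eb2e8991e0570d8155d1534c9113c0d5a928398a418820bdab49ca307b9ac2c8930b80f4d91789a0768983aaa8b21e3200dae42eb684ca663c22a5d2a990d17804dba1553c2451b1c15d2c994670735ecb56f4314e410460525687002fb2137910b3131a3552ab342271b40e5d5163c49278582ba68a99606009ed42af521a7163861a5969848e56bdccaded48ce5008c404ad4829cc4426d721653005cfa554b844c763443aa176890f26806e4d2ea2c2660b1e255d1534c9113c0db2e8991e0570d81bdab49ca307b9ac5a928398a418820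

/-- inverses in SL(2, 3) -/
def ivTbl : ℕ := 0x29cd0525741882c8ce44b56e87b9a0

def mt (a b : ℕ) : ℕ := fld 5 mtTbl (a * 24 + b)
def ivs (a : ℕ) : ℕ := fld 5 ivTbl a
def ngs (a : ℕ) : ℕ := (a + 12) % 24

/-- the first component -/
def sa (i : ℕ) : ℕ := i / 24 % 12
/-- the second component -/
def sb (i : ℕ) : ℕ := i % 24
/-- the exchange -/
def se (i : ℕ) : ℕ := i / 288 % 2

/-- the code of a pair -/
def norm (a b e : ℕ) : ℕ :=
  bif Nat.ble a 11 then e * 288 + a * 24 + b else e * 288 + ngs a * 24 + ngs b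

/-- multiplication -/
def mL (i j : ℕ) : ℕ :=
  bif Nat.beq (se i) 0 then norm (mt (sa i) (sa j)) (mt (sb i) (sb j)) (se j)
  else norm (mt (sa i) (sb j)) (mt (sb i) (sa j)) (1 - se j)

/-- inverses -/
def iL (i : ℕ) : ℕ :=
  bif Nat.beq (se i) 0 then norm (ivs (sa i)) (ivs (sb i)) 0 else norm (ivs (sb i)) (ivs (sa i)) 1

/-- conjugation -/
def cj (k i : ℕ) : ℕ := mL (mL k i) (iL k)

/-- commuting -/
def com (i j : ℕ) : Bool := Nat.beq (mL i j) (mL j i)

/-- classes of involutions: central, in the core, and two classes outside -/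
def cl (i : ℕ) : ℕ :=
  bif Nat.beq i 0 || !(Nat.beq (mL i i) 0) then 0
  else bif Nat.beq i 12 then 1
  else bif Nat.beq (se i) 0 then 2
  else bif Nat.beq (sb i) (ivs (sa i)) then 3 else 4

abbrev tI : ℕ := 12
abbrev sI : ℕ := 288
abbrev uI : ℕ := 300
abbrev dI : ℕ := 25
abbrev wI : ℕ := 100
abbrev pI : ℕ := 24
abbrev aI : ℕ := 104

/-- the elementary abelian group of order 16 -/
def elTbl : ℕ := 0xbbdacae4baf5487c32a2ce44a19964801800

/-- its elements, in coordinates -/
def eI (x : ℕ) : ℕ := fld 9 elTbl x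

/-- a linear map, given by the images of the basis -/
abbrev Lin := ℕ × ℕ × ℕ × ℕ

/-- the value of a linear map -/
def ap (g : Lin) (x : ℕ) : ℕ :=
  Nat.xor (Nat.xor (bif Nat.beq (x % 2) 1 then g.1 else 0) (bif Nat.beq (x / 2 % 2) 1 then g.2.1 else 0))
    (Nat.xor (bif Nat.beq (x / 4 % 2) 1 then g.2.2.1 else 0) (bif Nat.beq (x / 8 % 2) 1 then g.2.2.2 else 0))

/-- composition -/
def cmp (g h : Lin) : Lin := (ap g h.1, ap g h.2.1, ap g h.2.2.1, ap g h.2.2.2)

/-- equality test -/
def leq (g h : Lin) : Bool :=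
  Nat.beq g.1 h.1 && Nat.beq g.2.1 h.2.1 && Nat.beq g.2.2.1 h.2.2.1 && Nat.beq g.2.2.2 h.2.2.2

/-- the action of the stabiliser of the central involution -/
def actA : List Lin :=
  [(1, 2, 4, 8),
   (1, 2, 8, 12),
   (1, 2, 12, 4),
   (1, 7, 4, 9),
   (1, 7, 9, 13),
   (1, 7, 13, 4),
   (1, 11, 5, 8),
   (1, 11, 8, 13),
   (1, 11, 13, 5),
   (1, 15, 5, 9),
   (1, 15, 9, 12),
   (1, 15, 12, 5)]

/-- the exchange of the first two coordinates -/
def tau : Lin := (2, 1, 4, 12)

/-- a linear map is injective and stays in range -/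
def bij (g : Lin) : Bool :=
  let a := g.1; let b := g.2.1; let c := g.2.2.1; let d := g.2.2.2
  Nat.ble 1 a && !(Nat.beq b 0) && !(Nat.beq b a) &&
    !([0, a, b, Nat.xor a b].any (Nat.beq c)) &&
    !([0, a, b, Nat.xor a b, c, Nat.xor a c, Nat.xor b c, Nat.xor (Nat.xor a b) c].any (Nat.beq d))

end Cfsg.Agent.Invol.PSp43
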