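import Cfsg.Agent.Lib.Invol.PSp43.Data

/-! Kernel checks of the table of the centraliser. -/

set_option autoImplicit false
set_option maxRecDepth 20000

namespace Cfsg.Agent.Invol.PSp43

/-- fourth power -/
def p4 (i : ℕ) : ℕ := mL (mL i i) (mL i i)

/-- ninth power -/
def p9 (i : ℕ) : ℕ := mL (mL (p4 i) (p4 i)) i

/-- sixty-fourth power -/
def p64 (i : ℕ) : ℕ := p4 (p4 (p4 i))

/-- the elementary abelian group -/
def inEl (i : ℕ) : Bool := (List.range 16).any fun x => Nat.beq (eI x) i

/-- the Sylow subgroup -/
def inS (i : ℕ) : Bool := Nat.ble (sa i) 3 && Nat.ble (sb i % 12) 3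

/-- the normaliser of the elementary abelian group -/
def inN (i : ℕ) : Bool := [1, 2, 4, 8].all fun x => inEl (cj i (eI x))

theorem sl_ok : ((List.range 24).all fun a => decide (ivs a < 24) && (List.range 24).all fun b => decide (mt a b < 24)) = true := by
  decide +kernel

theorem inv_ok : ((List.range 576).all fun i => Nat.beq (mL i (iL i)) 0) = true := by decide +kernel

theorem center_ok : ((List.range 576).all fun i =>
    Nat.beq i 0 || Nat.beq i tI || [pI, wI, aI, sI].any fun j => !(com i j)) = true := by decide +kernel

theorem cls_ok : ((List.range 576).all fun i => decide (cl i < 5) &&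
    ((Nat.beq (cl i) 0) == (Nat.beq i 0 || !(Nat.beq (mL i i) 0))) && ((Nat.beq (cl i) 1) == Nat.beq i tI)) = true := by
  decide +kernel

theorem orbit_ok : ((List.range 576).all fun i =>
    (!(Nat.beq (cl i) 2) || (List.range 576).any fun k => Nat.beq (cj k i) dI) &&
    (!(Nat.beq (cl i) 3) || (List.range 576).any fun k => Nat.beq (cj k i) sI) &&
    (!(Nat.beq (cl i) 4) || (List.range 576).any fun k => Nat.beq (cj k i) uI)) = true := by decide +kernel

theorem el_ok : ((List.range 16).all fun x => decide (eI x < 576) && (List.range 16).all fun y =>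
    Nat.beq (mL (eI x) (eI y)) (eI (Nat.xor x y)) && (!(Nat.beq (eI x) (eI y)) || Nat.beq x y)) = true := by
  decide +kernel

theorem el_consts : eI 0 = 0 ∧ eI 1 = tI ∧ eI 2 = sI ∧ eI 3 = uI ∧ eI 4 = dI := by decide +kernel

theorem cent_s_ok : ((List.range 576).all fun i =>
    !(Nat.beq (mL i i) 0) || !(com i sI || com i uI) || inEl i) = true := by decide +kernel

theorem cent_d_ok : ((List.range 576).countP fun i =>
    Nat.beq (mL i i) 0 && Nat.beq (se i) 0 && com i dI) < 16 := by decide +kernel

theorem se_conj_ok : ((List.range 576).all fun k => (List.range 576).all fun i =>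
    !(Nat.beq (mL i i) 0) || Nat.beq (se (cj k i)) (se i)) = true := by decide +kernel

theorem cls_se_ok : ((List.range 576).all fun i =>
    !(Nat.beq (mL i i) 0) || !(Nat.beq (se i) 1) || Nat.beq (cl i) 3 || Nat.beq (cl i) 4) = true := by decide +kernel

theorem syl_count : ((List.range 576).countP inS) = 64 := by decide +kernel

theorem syl_ok : ((List.range 576).all fun i => !(inS i) || (inS (iL i) &&
    (List.range 576).all fun j => !(inS j) || inS (mL i j))) = true := by decide +kernel

theorem syl_center : ((List.range 576).all fun i => !(inS i) || Nat.beq i 0 || Nat.beq i tI ||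
    (List.range 576).any fun j => inS j && !(com i j)) = true := by decide +kernel

theorem syl_el : ((List.range 576).all fun i => !(inS i) ||
    (inEl (mL i i) && (!(Nat.beq (cl i) 1 || Nat.beq (cl i) 3) || inEl i))) = true ∧
    ((List.range 16).all fun x => inS (eI x)) = true := by decide +kernel

theorem syl_unique : ((List.range 576).all fun k =>
    !([1, 2, 4, 8].all fun x => inS (cj k (eI x))) || inN k) = true := by decide +kernel

theorem act_ok : ((List.range 576).all fun i => !(inN i) || actA.any fun a =>
    [1, 2, 4, 8].all fun x => Nat.beq (cj i (eI x)) (eI (ap a x))) = true ∧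
    (actA.all fun a => (List.range 576).any fun i =>
      [1, 2, 4, 8].all fun x => Nat.beq (cj i (eI x)) (eI (ap a x))) = true ∧
    (actA.all fun a => [a.1, a.2.1, a.2.2.1, a.2.2.2].all fun y => decide (y < 16)) = true := by decide +kernel

theorem ce_ok : ((List.range 576).all fun i =>
    !([1, 2, 4, 8].all fun x => com i (eI x)) || inEl i) = true := by decide +kernel

theorem five_ok : ((List.range 576).all fun i =>
    ([tI, dI, 50].all fun b => Nat.beq (p4 (mL (cj i b) b)) 0) &&
    (!([tI, dI, 50].all fun b => com i b) || Nat.beq (p4 i) 0)) = true := by decide +kernel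

theorem u_cent_ok : ((List.range 576).all fun i => !(com i uI) || inN i) = true := by decide +kernel

theorem u_pair_ok : ((List.range 576).all fun i => !(com i uI) || !(Nat.beq (cl i) 1 || Nat.beq (cl i) 3) ||
    !(Nat.beq (cl (mL i uI)) 1 || Nat.beq (cl (mL i uI)) 3) || Nat.beq i tI || Nat.beq i sI) = true := by decide +kernel

theorem w_cent_ok : ((List.range 576).all fun i => !(com i wI && com i uI) ||
    (com i sI && (!(Nat.beq (p64 i) 0) || [0, tI, sI, uI].any (Nat.beq i)) &&
      (!(Nat.beq (p9 i) 0) || [0, wI, mL wI wI].any (Nat.beq i)))) = true ∧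
    ((List.range 576).all fun i => !(com i wI && com i sI) ||
      (!(Nat.beq (p64 i) 0) || [0, tI, sI, uI].any (Nat.beq i))) = true := by decide +kernel

theorem w_lift_ok : ((List.range 16).all fun x =>
    let j := mL (eI x) (iL wI)
    !(Nat.beq (mL (mL j j) j) 0) || (List.range 16).any fun y => Nat.beq (cj (eI y) j) (iL wI)) = true ∧
    ((List.range 16).all fun x =>
      !(com (eI x) wI) || !(Nat.beq (ap tau x) x) || Nat.beq x 0 || Nat.beq x 3) = true := by decide +kernel

end Cfsg.Agent.Invol.PSp43
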