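import Cfsg.Agent.Lib.Invol.PSp43.Normalizer
import Cfsg.Agent.S0215

/-! Fusion of involutions. -/

set_option autoImplicit false
set_option linter.unusedSectionVars false
set_option linter.style.haveILetI false

namespace Cfsg.Agent.Invol.PSp43

theorem a_group : (actA.all fun a => actA.any fun b => leq (cmp b a) lid) = true ∧
    (actA.all fun a => pres qSet a && pres qSet' a) = true := by decide +kernel

theorem a_norm : ((List.range 16).all fun x => Nat.beq x 0 || Nat.beq x 1 ||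
    actA.any fun a => [2, 3, 4].any (Nat.beq (ap a x))) = true := by decide +kernel

theorem set_facts : (∀ z ∈ qSet, z < 16 ∧ (cl (eI z) = 1 ∨ cl (eI z) = 3)) ∧ (∀ z ∈ qSet', z < 16) ∧
    (∀ z < 16, cl (eI z) = 1 ∨ cl (eI z) = 3 → z ∈ qSet) := by decide +kernel

variable {G : Type*} [Group G] (h : Setting G)

theorem conj_conj' (m n y : G) : m * n * y * (m * n)⁻¹ = m * (n * y * n⁻¹) * m⁻¹ := by group

namespace Setting

theorem EE_le_SS : h.EE ≤ h.SS := by
  rintro _ ⟨x, hx, rfl⟩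
  have := syl_el.2
  simp only [List.all_eq_true, List.mem_range] at this
  exact ⟨eI x, eI_lt hx, this x hx, rfl⟩

theorem EE_sq {y : G} (hy : y ∈ h.EE) : y * y = 1 := by
  obtain ⟨x, hx, rfl⟩ := hy
  exact h.E'_sq hx

theorem inN_act {i : ℕ} (hi : i < 576) (hn : inN i = true) : ∃ a ∈ actA, h.Act (h.e i) a := by
  have := act_ok
  simp only [List.all_eq_true, List.any_eq_true, List.mem_range, Bool.or_eq_true, Bool.not_eq_true',
    decide_eq_true_eq, beq_iff, ← Bool.not_eq_true] at this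
  obtain ⟨a, ha, hx⟩ := (this.1 i hi).resolve_left fun n => n hn
  have hb := this.2.2 a ha
  have e : ∀ x ∈ [1, 2, 4, 8], h.e i * h.E' x * (h.e i)⁻¹ = h.E' (ap a x) := fun x hxm => by
    have hx16 : x < 16 := by
      simp only [List.mem_cons, List.not_mem_nil, or_false] at hxm
      omega
    rw [Setting.E', h.conj_e hi (eI_lt hx16), hx x hxm]
    rfl
  obtain ⟨p, q, r, s⟩ := a
  have k : ap (p, q, r, s) 1 = p ∧ ap (p, q, r, s) 2 = q ∧ ap (p, q, r, s) 4 = r ∧ ap (p, q, r, s) 8 = s := by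
    refine ⟨?_, ?_, ?_, ?_⟩ <;> simp [ap, Nat.beq]
  refine ⟨_, ha, h.act_of_basis ⟨hb p (by simp), hb q (by simp), hb r (by simp), hb s (by simp)⟩ ?_ ?_ ?_ ?_⟩
  · exact (e 1 (by simp)).trans (by rw [k.1])
  · exact (e 2 (by simp)).trans (by rw [k.2.1])
  · exact (e 4 (by simp)).trans (by rw [k.2.2.1])
  · exact (e 8 (by simp)).trans (by rw [k.2.2.2])

theorem act_real {a : Lin} (ha : a ∈ actA) : ∃ i < 576, h.Act (h.e i) a := by
  have := act_ok
  simp only [List.all_eq_true, List.any_eq_true, List.mem_range, decide_eq_true_eq, beq_iff] at this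
  obtain ⟨i, hi, hx⟩ := this.2.1 a ha
  have hb := this.2.2 a ha
  have e : ∀ x ∈ [1, 2, 4, 8], h.e i * h.E' x * (h.e i)⁻¹ = h.E' (ap a x) := fun x hxm => by
    have hx16 : x < 16 := by
      simp only [List.mem_cons, List.not_mem_nil, or_false] at hxm
      omega
    rw [Setting.E', h.conj_e hi (eI_lt hx16), hx x hxm]
    rfl
  obtain ⟨p, q, r, s⟩ := a
  have k : ap (p, q, r, s) 1 = p ∧ ap (p, q, r, s) 2 = q ∧ ap (p, q, r, s) 4 = r ∧ ap (p, q, r, s) 8 = s := by
    refine ⟨?_, ?_, ?_, ?_⟩ <;> simp [ap, Nat.beq]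
  refine ⟨i, hi, h.act_of_basis ⟨hb p (by simp), hb q (by simp), hb r (by simp), hb s (by simp)⟩ ?_ ?_ ?_ ?_⟩
  · exact (e 1 (by simp)).trans (by rw [k.1])
  · exact (e 2 (by simp)).trans (by rw [k.2.1])
  · exact (e 4 (by simp)).trans (by rw [k.2.2.1])
  · exact (e 8 (by simp)).trans (by rw [k.2.2.2])

/-- An element of the normaliser fixing `t` is in the table. -/
theorem fix_t {n : G} (hn : n ∈ h.NE) (ht : n * h.e tI * n⁻¹ = h.e tI) :
    ∃ i < 576, inN i = true ∧ h.e i = n := by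
  obtain ⟨i, hi, rfl⟩ := h.mem_cent (mul_inv_eq_iff_eq_mul.1 ht)
  refine ⟨i, hi, ?_, rfl⟩
  simp only [inN, List.all_eq_true]
  intro x hx
  have hx16 : x < 16 := by
    simp only [List.mem_cons, List.not_mem_nil, or_false] at hx
    omega
  obtain ⟨y, hy, hye⟩ := (Subgroup.mem_normalizer_iff.1 hn _).1 (h.E'_mem hx16)
  rw [Setting.E', Setting.E', h.conj_e hi (eI_lt hx16), h.e_eq_iff (eI_lt hy) (cj_lt _ _)] at hye
  exact inEl_iff.2 ⟨y, hy, hye⟩

/-- The elementary abelian group is self-centralising. -/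
theorem act_lid {n : G} (ha : h.Act n lid) : n ∈ h.EE := by
  have hc : ∀ x < 16, n * h.E' x = h.E' x * n := fun x hx =>
    mul_inv_eq_iff_eq_mul.1 (by rw [ha.2 x hx, ← ap_basis x hx])
  obtain ⟨i, hi, rfl⟩ := h.mem_cent (x := n) (by rw [← h.E'_one]; exact hc 1 (by norm_num))
  refine h.e_mem_EE hi ?_
  have := ce_ok
  simp only [List.all_eq_true, List.mem_range, Bool.or_eq_true, Bool.not_eq_true', ← Bool.not_eq_true] at this
  refine (this i hi).resolve_left fun e => e fun x hx => ?_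
  have hx16 : x < 16 := by
    simp only [List.mem_cons, List.not_mem_nil, or_false] at hx
    omega
  exact (h.com_iff hi (eI_lt hx16)).1 (hc x hx16)

theorem mem_act_lid {y : G} (hy : y ∈ h.EE) : h.Act y lid := by
  obtain ⟨z, hz, rfl⟩ := hy
  exact ⟨by decide, fun x hx => by rw [h.E'_comm hz hx, ← ap_basis x hx]; group⟩

variable [Finite G]

theorem map_le_EE {m : G} (hm : ∀ y ∈ h.EE, m * y * m⁻¹ ∈ h.EE) : m ∈ h.NE := by
  have heq : h.EE.map (MulAut.conj m).toMonoidHom = h.EE := by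
    refine Subgroup.eq_of_le_of_card_ge ?_ (by
      rw [Subgroup.card_map_of_injective (MulAut.conj m).injective])
    rintro _ ⟨y, hy, rfl⟩
    exact hm y hy
  refine Subgroup.mem_normalizer_iff.2 fun y => ⟨hm y, fun hy => ?_⟩
  rw [← heq] at hy
  obtain ⟨z, hz, hze⟩ := hy
  rwa [← (MulAut.conj m).injective hze]

/-- A subgroup conjugate to the elementary abelian one inside the centraliser. -/
theorem conj_EE {g : G} (hC : ∀ y ∈ h.EE, g * y * g⁻¹ * h.e tI = h.e tI * (g * y * g⁻¹)) :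
    ∃ k < 576, h.e k * g ∈ h.NE := by
  obtain ⟨k, hk, hkA⟩ := h.elem_conj (h.EE.map (MulAut.conj g).toMonoidHom)
    (by rw [Subgroup.card_map_of_injective (MulAut.conj g).injective, h.card_EE])
    (by
      rintro _ ⟨y, hy, rfl⟩
      rw [← map_mul, h.EE_sq hy, map_one])
    (by rintro _ ⟨y, hy, rfl⟩; exact hC y hy)
  refine ⟨k, hk, h.map_le_EE fun y hy => ?_⟩
  rw [conj_conj']
  exact hkA _ ⟨y, hy, rfl⟩

/-- A 2-subgroup containing the elementary abelian one moves into the Sylow subgroup inside the normaliser. -/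
theorem two_sub {Q : Subgroup G} (hQ : IsPGroup 2 Q) (hE : h.EE ≤ Q) :
    ∃ x ∈ h.NE, ∀ q ∈ Q, x * q * x⁻¹ ∈ h.SS := by
  haveI : Fact (Nat.Prime 2) := ⟨Nat.prime_two⟩
  obtain ⟨P, hP⟩ := h.exists_sylow
  obtain ⟨g, hg⟩ := Cfsg.Agent.Invol.exists_conj_subset_sylow hQ P
  have hg' : ∀ q ∈ Q, g * q * g⁻¹ ∈ h.SS := fun q hq => hP ▸ hg q hq
  refine ⟨g, ?_, hg'⟩
  obtain ⟨k, hk, hkm⟩ := h.conj_EE (g := g) fun y hy => h.SS_comm_t (hg' y (hE hy))
  have hk' : h.e (iL k) ∈ h.NE := by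
    have hin : inN (iL k) = true := by
      have := syl_unique
      simp only [List.all_eq_true, List.mem_range, Bool.or_eq_true, Bool.not_eq_true', ← Bool.not_eq_true] at this
      refine (this _ (iL_lt k)).resolve_left fun e => e fun x hx => ?_
      have hx16 : x < 16 := by
        simp only [List.mem_cons, List.not_mem_nil, or_false] at hx
        omega
      have h1 : (h.e k * g)⁻¹ * h.E' x * (h.e k * g) ∈ h.EE := by
        have := (Subgroup.mem_normalizer_iff.1 (inv_mem hkm) (h.E' x)).1 (h.E'_mem hx16)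
        simpa using this
      obtain ⟨j, hj, hjs, hje⟩ := hg' _ (hE h1)
      have e2 : h.e j = h.e (cj (iL k) (eI x)) := by
        rw [← h.conj_e (iL_lt k) (eI_lt hx16), hje, h.e_inv hk, Setting.E']
        group
      rwa [(h.e_eq_iff hj (cj_lt _ _)).1 e2] at hjs
    obtain ⟨a, -, ha⟩ := h.inN_act (iL_lt k) hin
    exact h.act_mem ha
  have := mul_mem hk' hkm
  rwa [h.e_inv hk, inv_mul_cancel_left] at this

theorem pgroup_sup {m : G} (hm : m ∈ h.NE) {k : ℕ} (hk : m ^ 2 ^ k = 1) :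
    IsPGroup 2 (h.EE ⊔ Subgroup.zpowers m : Subgroup G) := by
  haveI : Fact (Nat.Prime 2) := ⟨Nat.prime_two⟩
  obtain ⟨j, -, hj⟩ := (Nat.dvd_prime_pow Nat.prime_two).1 (orderOf_dvd_of_pow_eq_one hk)
  exact IsPGroup.to_sup_of_normal_left' (IsPGroup.of_card (n := 4) (by rw [h.card_EE]; norm_num))
    (Cfsg.Agent.Invol.isPGroup_zpowers hj) ((Subgroup.zpowers_le).2 hm)

/-- The stabiliser of `t`. -/
theorem act_stab {m : G} {u : Lin} (ha : h.Act m u) : stab u = true := by
  simp only [stab, Bool.or_eq_true, Bool.not_eq_true', ← Bool.not_eq_true, beq_iff, List.any_eq_true, leq_iff]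
  by_cases e : u.1 = 1
  · right
    have ht : m * h.e tI * m⁻¹ = h.e tI := by
      have := (h.act_basis ha).1
      rwa [e, h.E'_one] at this
    obtain ⟨i, hi, hin, rfl⟩ := h.fix_t (h.act_mem ha) ht
    obtain ⟨a, haA, ha'⟩ := h.inN_act hi hin
    exact ⟨a, haA, h.act_unique ha ha'⟩
  · exact Or.inl e

/-- No element of order four. -/
theorem act_noFour {m : G} {u : Lin} (ha : h.Act m u) : noFour u = true := by
  simp only [noFour, Bool.or_eq_true, Bool.not_eq_true', ← Bool.not_eq_true, leq_iff]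
  by_cases e : cmp (cmp u u) (cmp u u) = lid
  · left
    have h2 := h.act_mul ha ha
    have h4 := h.act_mul h2 h2
    rw [e] at h4
    have h8 : m ^ 2 ^ 3 = 1 := by
      have := h.EE_sq (h.act_lid h4)
      rw [show m ^ 2 ^ 3 = m * m * (m * m) * (m * m * (m * m)) by
        simp only [show (2 : ℕ) ^ 3 = 8 from rfl, pow_succ, pow_zero, one_mul, mul_assoc]]
      exact this
    obtain ⟨x, hx, hxq⟩ := h.two_sub (h.pgroup_sup (h.act_mem ha) h8) le_sup_left
    obtain ⟨i, hi, his, hie⟩ := hxq m (Subgroup.mem_sup_right (Subgroup.mem_zpowers m))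
    have hel : inEl (mL i i) = true := by
      have := syl_el.1
      simp only [List.all_eq_true, List.mem_range, Bool.or_eq_true, Bool.not_eq_true', Bool.and_eq_true,
        ← Bool.not_eq_true] at this
      exact ((this i hi).resolve_left fun n => n his).1
    have hmem : x * (m * m) * x⁻¹ ∈ h.EE := by
      rw [show x * (m * m) * x⁻¹ = x * m * x⁻¹ * (x * m * x⁻¹) by group, ← hie, ← h.mul i hi i hi]
      exact h.e_mem_EE (mL_lt i i) hel
    exact h.act_unique h2 (h.mem_act_lid ((Subgroup.mem_normalizer_iff.1 hx _).2 hmem))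
  · exact Or.inr e

/-- The necessary conditions hold. -/
theorem act_good {n : G} {g : Lin} (ha : h.Act n g) : good g = true := by
  simp only [good, List.all_eq_true, Bool.and_eq_true]
  intro a haA
  obtain ⟨i, -, hi⟩ := h.act_real haA
  have hu := h.act_mul ha hi
  have hv := h.act_mul hu hu
  refine ⟨⟨⟨⟨h.act_noFour hu, h.act_stab hu⟩, h.act_stab hv⟩, h.act_stab (h.act_mul hv hu)⟩, fun b hb => ?_⟩
  obtain ⟨j, -, hj⟩ := h.act_real hb
  exact h.act_noFour (h.act_mul hu (h.act_mul ha hj))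

theorem of_allC {x : ℕ} {p : Lin → Bool} (hp : allC x p = true) {n : G} {g : Lin} (ha : h.Act n g)
    (hg : g.1 = x) : p g = true := by
  obtain ⟨a, b, c, d⟩ := g
  obtain rfl : a = x := hg
  obtain ⟨-, lb, lc, ld⟩ := ha.1
  simp only [allC, List.all_eq_true, List.mem_range, Bool.or_eq_true, Bool.not_eq_true', ← Bool.not_eq_true] at hp
  rcases hp b lb c lc d ld with (e | e) | e
  · exact absurd (h.act_bij ha) e
  · exact absurd (h.act_good ha) e
  · exact e

/-- Burnside's lemma for the elementary abelian group. -/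
theorem burnside {x : ℕ} (hx : x < 16) (hc : IsConj (h.e tI) (h.E' x)) :
    ∃ n ∈ h.NE, n * h.e tI * n⁻¹ = h.E' x := by
  obtain ⟨g, hg⟩ := isConj_iff.1 hc
  obtain ⟨k, hk, hkm⟩ := h.conj_EE (g := g⁻¹) fun y hy => by
    have e1 : y * h.E' x = h.E' x * y := by
      obtain ⟨z, hz, rfl⟩ := hy
      exact h.E'_comm hz hx
    rw [← hg] at e1
    calc g⁻¹ * y * g⁻¹⁻¹ * h.e tI = g⁻¹ * (y * (g * h.e tI * g⁻¹)) * g := by group
      _ = g⁻¹ * (g * h.e tI * g⁻¹ * y) * g := by rw [e1]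
      _ = _ := by group
  refine ⟨_, inv_mem hkm, ?_⟩
  have e2 : (h.e k)⁻¹ * h.e tI * h.e k = h.e tI := by rw [mul_assoc, ← h.e_comm_t hk, inv_mul_cancel_left]
  calc (h.e k * g⁻¹)⁻¹ * h.e tI * (h.e k * g⁻¹)⁻¹⁻¹ = g * ((h.e k)⁻¹ * h.e tI * h.e k) * g⁻¹ := by group
    _ = _ := by rw [e2, hg]

/-- `t` is not isolated if there is no subgroup of index two. -/
theorem exists_moved (hG : ∀ H : Subgroup G, H.index ≠ 2) :
    ∃ n ∈ h.NE, n * h.e tI * n⁻¹ ≠ h.e tI := by
  by_contra hcon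
  push Not at hcon
  haveI : Fact (Nat.Prime 2) := ⟨Nat.prime_two⟩
  obtain ⟨P, hP⟩ := h.exists_sylow
  have htP : h.e tI ∈ (P : Subgroup G) := hP ▸ ⟨tI, by norm_num, by decide +kernel, rfl⟩
  obtain ⟨N, hN, hodd, hcomm⟩ := Cfsg.Agent.S0215.result P (h.e tI) h.ord_t htP fun g hg => by
    obtain ⟨i, hi, -, hie⟩ : g * h.e tI * g⁻¹ ∈ h.SS := hP ▸ hg
    have hc : cl i ≠ 0 := (h.sq_iff hi).1 (by rw [hie, Cfsg.Agent.Invol.orderOf_conj_eq, h.ord_t])
    have hti : IsConj (h.e tI) (h.e i) := isConj_iff.2 ⟨g, hie.symm⟩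
    rcases h.cls_rep hi hc with ⟨-, e⟩ | ⟨r, -⟩ | ⟨r, -⟩ | ⟨r, -⟩
    · rw [← hie, (cl_spec hi).2.2.1 e]
    all_goals exfalso
    · obtain ⟨n, hn, hne⟩ := h.burnside (x := 4) (by norm_num) (by rw [h.E'_four]; exact hti.trans r)
      rw [hcon n hn, ← h.E'_one] at hne
      exact absurd (h.E'_inj (by norm_num) (by norm_num) hne) (by norm_num)
    · obtain ⟨n, hn, hne⟩ := h.burnside (x := 2) (by norm_num) (by rw [h.E'_two]; exact hti.trans r)
      rw [hcon n hn, ← h.E'_one] at hne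
      exact absurd (h.E'_inj (by norm_num) (by norm_num) hne) (by norm_num)
    · obtain ⟨n, hn, hne⟩ := h.burnside (x := 3) (by norm_num) (by rw [h.E'_three]; exact hti.trans r)
      rw [hcon n hn, ← h.E'_one] at hne
      exact absurd (h.E'_inj (by norm_num) (by norm_num) hne) (by norm_num)
  set t := h.e tI with htdef
  have ht2 : t * t = 1 := (Cfsg.Agent.Invol.orderOf_two_iff.1 h.ord_t).1
  have hti : t⁻¹ = t := inv_eq_of_mul_eq_one_right ht2
  have hdec : ∀ g : G, ∃ i < 576, (h.e i)⁻¹ * g ∈ N := by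
    intro g
    set m := t * g * t⁻¹ * g⁻¹ with hm
    have hmN : m ∈ N := hcomm g
    obtain ⟨l, hl⟩ : Odd (orderOf m) := Odd.of_dvd_nat hodd (Subgroup.orderOf_dvd_natCard N hmN)
    set r := m⁻¹ ^ (l + 1) with hr
    have hrN : r ∈ N := pow_mem (inv_mem hmN) _
    have hinv : t * m * t⁻¹ = m⁻¹ := by
      have : m⁻¹ = g * (t * g⁻¹ * t⁻¹) := by rw [hm]; group
      rw [this, hm, hti]
      calc t * (t * g * t * g⁻¹) * t = t * t * (g * t * g⁻¹ * t) := by group
        _ = g * (t * g⁻¹ * t) := by rw [ht2, one_mul]; group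
    have hr2 : r * r = m⁻¹ := by
      rw [hr, ← pow_add, show l + 1 + (l + 1) = orderOf m + 1 by omega, pow_succ, inv_pow, pow_orderOf_eq_one,
        inv_one, one_mul]
    have htr : t * r⁻¹ * t⁻¹ = r := by
      have e1 : t * r * t⁻¹ = r⁻¹ := by
        have hpw : (t * m⁻¹ * t⁻¹) ^ (l + 1) = t * m⁻¹ ^ (l + 1) * t⁻¹ := conj_pow
        rw [hr, ← hpw, show t * m⁻¹ * t⁻¹ = (t * m * t⁻¹)⁻¹ by group, hinv, inv_inv]
        rw [inv_pow, inv_inv]
      rw [show t * r⁻¹ * t⁻¹ = (t * r * t⁻¹)⁻¹ by group, e1, inv_inv]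
    have hcomm' : r⁻¹ * g * t = t * (r⁻¹ * g) := by
      have e2 : g * t = m⁻¹ * (t * g) := by rw [hm]; group
      have e3 : t * r⁻¹ = r * t := mul_inv_eq_iff_eq_mul.1 htr
      calc r⁻¹ * g * t = r⁻¹ * (g * t) := mul_assoc _ _ _
        _ = r⁻¹ * (r * r * (t * g)) := by rw [e2, hr2]
        _ = r * t * g := by group
        _ = _ := by rw [← e3, mul_assoc]
    obtain ⟨i, hi, hie⟩ := h.mem_cent hcomm'
    refine ⟨i, hi, ?_⟩
    rw [hie, show (r⁻¹ * g)⁻¹ * g = g⁻¹ * r * g by group]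
    simpa using hN.conj_mem r hrN g⁻¹
  -- the subgroup of index two
  let H : Subgroup G :=
    { carrier := {g | ∃ i < 576, se i = 0 ∧ (h.e i)⁻¹ * g ∈ N}
      one_mem' := ⟨0, by norm_num, rfl, by rw [h.e_zero]; simp⟩
      mul_mem' := by
        rintro a b ⟨i, hi, hsi, ha⟩ ⟨j, hj, hsj, hb⟩
        refine ⟨mL i j, mL_lt i j, by rw [(mL_spec i j).2, hsi, hsj], ?_⟩
        rw [h.mul i hi j hj]
        have := mul_mem (hN.conj_mem _ ha (h.e j)⁻¹) hb
        convert this using 1; group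
      inv_mem' := by
        rintro a ⟨i, hi, hsi, ha⟩
        refine ⟨iL i, iL_lt i, ?_, ?_⟩
        · have := (mL_spec i (iL i)).2
          rw [iL_mul hi, hsi] at this
          have h2 := se_lt (iL i)
          simp only [show se 0 = 0 from rfl] at this
          omega
        · rw [h.e_inv hi]
          have := hN.conj_mem _ (inv_mem ha) (h.e i)
          convert this using 1; group }
  have hsH : h.e sI ∉ H := by
    rintro ⟨i, hi, hsi, hn⟩
    set j := mL (iL i) sI
    have hj : h.e j = (h.e i)⁻¹ * h.e sI := by rw [h.mul _ (iL_lt i) _ (by norm_num), h.e_inv hi]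
    have hjl : j < 576 := mL_lt _ _
    obtain ⟨l, hl⟩ : Odd (orderOf (h.e j)) :=
      Odd.of_dvd_nat hodd (Subgroup.orderOf_dvd_natCard N (hj.symm ▸ hn))
    have hpow : ∀ k : ℕ, ∃ q < 576, se q = k * se j % 2 ∧ h.e q = h.e j ^ k := by
      intro k
      induction k with
      | zero => exact ⟨0, by norm_num, by rw [zero_mul]; rfl, by rw [h.e_zero, pow_zero]⟩
      | succ k ih =>
        obtain ⟨q, hq, hqs, hqe⟩ := ih
        exact ⟨mL q j, mL_lt q j, by rw [(mL_spec q j).2, hqs, Nat.succ_mul]; omega,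
          by rw [h.mul q hq j hjl, hqe, pow_succ]⟩
    obtain ⟨q, hq, hqs, hqe⟩ := hpow (orderOf (h.e j))
    rw [pow_orderOf_eq_one, h.e_eq_one hq] at hqe
    have hj1 : se j = 1 := by
      show se (mL (iL i) sI) = 1
      have h3 := (mL_spec i (iL i)).2
      rw [iL_mul hi, hsi, show se 0 = 0 from rfl] at h3
      rw [(mL_spec (iL i) sI).2, show se sI = 1 from rfl]
      have := se_lt (iL i); omega
    rw [hqe, hj1, show se 0 = 0 from rfl] at hqs
    omega
  refine hG H (Subgroup.index_eq_two_iff.2 ⟨h.e sI, fun b => ?_⟩)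
  obtain ⟨i, hi, hb⟩ := hdec b
  have hsi : se i = 0 ∨ se i = 1 := by have := se_lt i; omega
  rcases hsi with hsi | hsi
  · have hbH : b ∈ H := ⟨i, hi, hsi, hb⟩
    exact Or.inr ⟨hbH, fun e => hsH ((Subgroup.mul_mem_cancel_left H hbH).1 e)⟩
  · have hbs : b * h.e sI ∈ H := ⟨mL i sI, mL_lt _ _, by rw [(mL_spec i sI).2, hsi]; rfl, by
      rw [h.mul i hi _ (by norm_num)]
      have := hN.conj_mem _ hb (h.e sI)⁻¹
      convert this using 1; group⟩
    exact Or.inl ⟨hbs, fun e => hsH ((Subgroup.mul_mem_cancel_left H e).1 hbs)⟩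

/-- `n` preserves a set of coordinates. -/
def Keeps (l : List ℕ) (n : G) : Prop := ∀ z ∈ l, ∃ z' ∈ l, n * h.E' z * n⁻¹ = h.E' z'

theorem keeps_of_pres {l : List ℕ} (hl : ∀ z ∈ l, z < 16) {n : G} {g : Lin} (ha : h.Act n g)
    (hp : pres l g = true) : h.Keeps l n := by
  simp only [pres, List.all_eq_true, List.any_eq_true, beq_iff] at hp
  intro z hz
  obtain ⟨z', hz', e⟩ := hp z hz
  exact ⟨z', hz', by rw [ha.2 z (hl z hz), e]⟩

theorem keeps_mul {l : List ℕ} {m n : G} (hm : h.Keeps l m) (hn : h.Keeps l n) : h.Keeps l (m * n) := by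
  intro z hz
  obtain ⟨z', hz', e'⟩ := hn z hz
  obtain ⟨z'', hz'', e''⟩ := hm z' hz'
  exact ⟨z'', hz'', by rw [conj_conj', e', e'']⟩

theorem keeps_inv {l : List ℕ} {n : G} (hn : h.Keeps l n) : h.Keeps l n⁻¹ := by
  have key : ∀ k : ℕ, h.Keeps l (n ^ k) := fun k => by
    induction k with
    | zero => exact fun z hz => ⟨z, hz, by simp⟩
    | succ k ih => rw [pow_succ]; exact h.keeps_mul ih hn
  obtain ⟨k, hk⟩ : ∃ k, orderOf n = k + 1 := ⟨orderOf n - 1, by have := orderOf_pos n; omega⟩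
  have e : n⁻¹ = n ^ k := inv_eq_of_mul_eq_one_right (by rw [← pow_succ', ← hk, pow_orderOf_eq_one])
  rw [e]
  exact key k

/-- Normalisation of the image of `t`. -/
theorem normalise {n : G} {g : Lin} (ha : h.Act n g) (hne : g.1 ≠ 1) :
    ∃ m : G, h.Keeps qSet m ∧ h.Keeps qSet' m ∧ m * h.e tI * m⁻¹ = h.e tI ∧
      ∃ g', h.Act (m * n) g' ∧ (g'.1 = 2 ∨ g'.1 = 3 ∨ g'.1 = 4) := by
  have h0 : g.1 ≠ 0 := fun e => by
    have := h.act_bij ha
    simp [bij, e, Nat.ble] at this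
  have := a_norm
  simp only [List.all_eq_true, List.any_eq_true, List.mem_range, Bool.or_eq_true, beq_iff] at this
  obtain ⟨a, haA, x, hx, hxa⟩ := (this g.1 ha.1.1).resolve_left (by rintro (e | e); exacts [h0 e, hne e])
  obtain ⟨i, hi, hai⟩ := h.act_real haA
  have hp := a_group.2
  simp only [List.all_eq_true, Bool.and_eq_true] at hp
  refine ⟨h.e i, h.keeps_of_pres (fun z hz => (set_facts.1 z hz).1) hai (hp a haA).1,
    h.keeps_of_pres set_facts.2.1 hai (hp a haA).2, by rw [h.e_comm_t hi, mul_inv_cancel_right],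
    cmp a g, h.act_mul hai ha, ?_⟩
  show ap a g.1 = 2 ∨ ap a g.1 = 3 ∨ ap a g.1 = 4
  rw [hxa]
  simpa using hx

theorem keeps_mul_iff {l : List ℕ} {m n : G} (hm : h.Keeps l m) : h.Keeps l (m * n) → h.Keeps l n := fun e => by
  have := h.keeps_mul (h.keeps_inv hm) e
  rwa [inv_mul_cancel_left] at this

theorem image_cases {n : G} {g : Lin} (ha : h.Act n g) (hne : g.1 ≠ 1) :
    h.Keeps qSet n ∨ h.Keeps qSet' n := by
  obtain ⟨m, hm, hm', -, g', ha', e⟩ := h.normalise ha hne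
  rcases e with e | e | e
  · have := h.of_allC surv_s ha' e
    simp only [Bool.and_eq_true] at this
    exact Or.inl (h.keeps_mul_iff hm (h.keeps_of_pres (fun z hz => (set_facts.1 z hz).1) ha' this.1.1.1))
  · exact Or.inr (h.keeps_mul_iff hm' (h.keeps_of_pres set_facts.2.1 ha' (h.of_allC surv_u ha' e)))
  · exact absurd (h.of_allC surv_d ha' e) Bool.false_ne_true

include h in
/-- After exchanging the outer classes if necessary, `t` moves to `s`. -/
theorem exists_fused (hG : ∀ H : Subgroup G, H.index ≠ 2) :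
    ∃ h' : Setting G, ∃ n g, h'.Act n g ∧ g.1 = 2 := by
  obtain ⟨n, hn, hne⟩ := h.exists_moved hG
  obtain ⟨g, ha⟩ := h.exists_act hn
  have h1 : g.1 ≠ 1 := fun e => hne (by
    have := (h.act_basis ha).1
    rwa [e, h.E'_one] at this)
  obtain ⟨m, -, -, -, g', ha', e⟩ := h.normalise ha h1
  rcases e with e | e | e
  · exact ⟨h, _, g', ha', e⟩
  · have hc : (m * n) * h.twist.e tI * (m * n)⁻¹ = h.twist.e sI := by
      have := (h.act_basis ha').1
      rwa [h.E'_one, e, h.E'_three, ← h.twist_t, ← h.twist_s] at this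
    obtain ⟨k, hk, hke⟩ := h.twist.burnside (x := 2) (by norm_num) (by
      rw [h.twist.E'_two]; exact isConj_iff.2 ⟨_, hc⟩)
    obtain ⟨g2, hg2⟩ := h.twist.exists_act hk
    refine ⟨h.twist, k, g2, hg2, h.twist.E'_inj hg2.1.1 (by norm_num) ?_⟩
    rw [← (h.twist.act_basis hg2).1, ← hke, h.twist.E'_one]
  · exact absurd (h.of_allC surv_d ha' e) Bool.false_ne_true

end Setting

/-- A setting in which `t` is fused with `s`. -/
structure Fused (G : Type*) [Group G] extends Setting G where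
  fus : ∃ n g, toSetting.Act n g ∧ g.1 = 2

variable (f : Fused G) [Finite G]

namespace Fused

/-- The normaliser preserves the singular points. -/
theorem keeps {n : G} (hn : n ∈ f.NE) : f.Keeps qSet n := by
  obtain ⟨g, ha⟩ := f.exists_act hn
  by_cases h1 : g.1 = 1
  · have ht : n * f.e tI * n⁻¹ = f.e tI := by
      have := (f.act_basis ha).1
      rwa [h1, f.E'_one] at this
    obtain ⟨i, hi, hin, rfl⟩ := f.fix_t hn ht
    obtain ⟨a, haA, hai⟩ := f.inN_act hi hin
    have hp := a_group.2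
    simp only [List.all_eq_true, Bool.and_eq_true] at hp
    exact f.keeps_of_pres (fun z hz => (set_facts.1 z hz).1) hai (hp a haA).1
  refine (f.image_cases ha h1).resolve_right fun hq' => ?_
  obtain ⟨n0, g0, ha0, hg0⟩ := f.fus
  have hk0 : f.Keeps qSet n0 := by
    have := f.of_allC surv_s ha0 hg0
    simp only [Bool.and_eq_true] at this
    exact f.keeps_of_pres (fun z hz => (set_facts.1 z hz).1) ha0 this.1.1.1
  have hn0 : n0 * f.E' 1 * n0⁻¹ = f.E' 2 := by rw [(f.act_basis ha0).1, hg0]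
  have hp := f.act_mul ha ha0
  have hp1 : (cmp g g0).1 = ap g 2 := by show ap g g0.1 = _; rw [hg0]
  have hnot : ap g 2 ∉ qSet' := fun hm => by
    obtain ⟨z, hz, e⟩ := f.keeps_inv hq' _ hm
    rw [← ha.2 2 (by norm_num)] at e
    have e' : f.E' 2 = f.E' z := by rw [← e]; group
    exact absurd (f.E'_inj (by norm_num) (set_facts.2.1 z hz) e') (fun r => by rw [← r] at hz; revert hz; decide)
  have hne : (cmp g g0).1 ≠ 1 := fun e => hnot (by rw [← hp1, e]; decide)
  rcases f.image_cases hp hne with hq | hq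
  · have hq1 : f.Keeps qSet n := by
      have := f.keeps_mul hq (f.keeps_inv hk0)
      rwa [mul_inv_cancel_right] at this
    obtain ⟨z1, hz1, e1⟩ := hq1 1 (by decide)
    obtain ⟨z2, hz2, e2⟩ := hq' 1 (by decide)
    rw [(f.act_basis ha).1] at e1 e2
    have e1' := f.E'_inj ha.1.1 (set_facts.1 z1 hz1).1 e1
    have e2' := f.E'_inj ha.1.1 (set_facts.2.1 z2 hz2) e2
    have : ∀ z ∈ qSet, z ∈ qSet' → z = 1 := by decide
    exact h1 (e1'.trans (this z1 hz1 (by rw [← e1', e2']; exact hz2)))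
  · obtain ⟨z, hz, e⟩ := hq 1 (by decide)
    rw [(f.act_basis hp).1] at e
    have e' := f.E'_inj hp.1.1 (set_facts.2.1 z hz) e
    exact hnot (by rw [← hp1, e']; exact hz)

/-- The involutions conjugate to `t` in the centraliser. -/
theorem conj_iff {i : ℕ} (hi : i < 576) : IsConj (f.e i) (f.e tI) ↔ cl i = 1 ∨ cl i = 3 := by
  have hs : IsConj (f.e sI) (f.e tI) := by
    obtain ⟨n0, g0, ha0, hg0⟩ := f.fus
    refine (isConj_iff.2 ⟨n0, ?_⟩).symm
    rw [← f.E'_one, (f.act_basis ha0).1, hg0, f.E'_two]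
  have hnot : ∀ x < 16, IsConj (f.E' x) (f.e tI) → x ∈ qSet := fun x hx e => by
    obtain ⟨n, hn, hne⟩ := f.burnside hx e.symm
    obtain ⟨z, hz, hze⟩ := f.keeps hn 1 (by decide)
    rw [f.E'_one, hne] at hze
    rw [f.E'_inj hx (set_facts.1 z hz).1 hze]
    exact hz
  constructor
  · intro hc
    have h0 : cl i ≠ 0 := (f.sq_iff hi).1 ((Cfsg.Agent.Invol.orderOf_eq_of_isConj hc).trans f.ord_t)
    rcases f.cls_rep hi h0 with ⟨-, e⟩ | ⟨r, -⟩ | ⟨-, e⟩ | ⟨r, -⟩
    · exact Or.inl e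
    · exact absurd (hnot 4 (by norm_num) (by rw [f.E'_four]; exact r.symm.trans hc)) (by decide)
    · exact Or.inr e
    · exact absurd (hnot 3 (by norm_num) (by rw [f.E'_three]; exact r.symm.trans hc)) (by decide)
  · intro hc
    rcases f.cls_rep hi (by omega) with ⟨r, -⟩ | ⟨-, e⟩ | ⟨r, -⟩ | ⟨-, e⟩
    · exact r
    · exfalso; omega
    · exact r.trans hs
    · exfalso; omega

/-- Conjugates of `t` normalising the elementary abelian group lie in it. -/
theorem conj_mem_EE {y : G} (hy : y ∈ f.NE) (hc : IsConj y (f.e tI)) : y ∈ f.EE := by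
  have hy2 : y ^ 2 ^ 1 = 1 := by
    have := (Cfsg.Agent.Invol.orderOf_eq_of_isConj hc).trans f.ord_t
    rw [pow_one, ← this, pow_orderOf_eq_one]
  obtain ⟨x, hx, hxq⟩ := f.two_sub (f.pgroup_sup hy hy2) le_sup_left
  obtain ⟨i, hi, his, hie⟩ := hxq y (Subgroup.mem_sup_right (Subgroup.mem_zpowers y))
  have hcl := (f.conj_iff hi).1 ((show IsConj (f.e i) y from isConj_iff.2 ⟨x⁻¹, by rw [hie]; group⟩).trans hc)
  have hel : inEl i = true := by
    have := syl_el.1
    simp only [List.all_eq_true, List.mem_range, Bool.or_eq_true, Bool.not_eq_true', Bool.and_eq_true,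
      ← Bool.not_eq_true, beq_iff] at this
    exact (((this i hi).resolve_left fun n => n his).2).resolve_left fun n => n hcl
  exact (Subgroup.mem_normalizer_iff.1 hx y).2 (hie ▸ f.e_mem_EE hi hel)

/-- An element realising a given image of `t` with the wanted action. -/
theorem exists_tau : ∃ n : G, f.Act n tau := by
  obtain ⟨n0, g0, ha0, hg0⟩ := f.fus
  have := f.of_allC surv_s ha0 hg0
  simp only [Bool.and_eq_true, List.any_eq_true, leq_iff] at this
  obtain ⟨a, haA, e⟩ := this.1.1.2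
  obtain ⟨i, -, hai⟩ := f.act_real haA
  exact ⟨_, e ▸ f.act_mul ha0 hai⟩

/-- The two outer classes of the second kind are fused. -/
theorem d_conj : IsConj (f.e dI) (f.e uI) := by
  obtain ⟨n0, g0, ha0, hg0⟩ := f.fus
  have := f.of_allC surv_s ha0 hg0
  simp only [Bool.and_eq_true, List.any_eq_true, beq_iff] at this
  obtain ⟨z, hz, z', hz', e⟩ := this.1.2
  have hz16 : z < 16 ∧ cl (eI z) = 2 := (show ∀ z ∈ [4, 5, 8, 9, 12, 13], z < 16 ∧ cl (eI z) = 2 by decide +kernel) z hz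
  have hz'16 : z' < 16 ∧ cl (eI z') = 4 := (show ∀ z ∈ [3, 6, 10, 14], z < 16 ∧ cl (eI z) = 4 by decide +kernel) z' hz'
  have h1 : IsConj (f.E' z) (f.E' z') := isConj_iff.2 ⟨n0, by rw [ha0.2 z hz16.1, e]⟩
  have hd : IsConj (f.E' z) (f.e dI) := by
    rcases f.cls_rep (eI_lt hz16.1) (by omega) with ⟨-, r⟩ | ⟨r, -⟩ | ⟨-, r⟩ | ⟨-, r⟩
    · omega
    · exact r
    · omega
    · omega
  have hu : IsConj (f.E' z') (f.e uI) := by
    rcases f.cls_rep (eI_lt hz'16.1) (by omega) with ⟨-, r⟩ | ⟨-, r⟩ | ⟨-, r⟩ | ⟨r, -⟩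
    · omega
    · omega
    · omega
    · exact r
  exact hd.symm.trans (h1.trans hu)

end Fused

end Cfsg.Agent.Invol.PSp43
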