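import Cfsg.Agent.Lib.Invol.PSp43.Data

/-! Linear maps of a group of order 16 compatible with the stabiliser of a point. -/

set_option autoImplicit false
set_option maxRecDepth 20000

namespace Cfsg.Agent.Invol.PSp43

/-- identity map -/
def lid : Lin := (1, 2, 4, 8)

/-- no element of order four -/
def noFour (u : Lin) : Bool :=
  let v := cmp u u
  leq v lid || !(leq (cmp v v) lid)

/-- the stabiliser is the given one -/
def stab (u : Lin) : Bool := !(Nat.beq u.1 1) || actA.any (leq u)

/-- the necessary conditions -/
def good (g : Lin) : Bool :=
  actA.all fun a =>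
    let u := cmp g a
    let v := cmp u u
    noFour u && stab u && stab v && stab (cmp v u) && actA.all fun b => noFour (cmp u (cmp g b))

/-- the singular points -/
def qSet : List ℕ := [1, 2, 7, 11, 15]

/-- the other quadratic set -/
def qSet' : List ℕ := [1, 3, 6, 10, 14]

/-- the points of the second kind -/
def uSet : List ℕ := [3, 4, 5, 6, 8, 9, 10, 12, 13, 14]

/-- a map preserves a set -/
def pres (l : List ℕ) (g : Lin) : Bool := l.all fun z => l.any (Nat.beq (ap g z))

/-- a quantifier over the candidates with a given image of the first basis vector -/
def allC (x : ℕ) (p : Lin → Bool) : Bool :=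
  (List.range 16).all fun b => (List.range 16).all fun c => (List.range 16).all fun d =>
    !(bij (x, b, c, d)) || !(good (x, b, c, d)) || p (x, b, c, d)

/-- the action of the three-element -/
def wA : Lin := (1, 2, 8, 12)

theorem surv_s : allC 2 (fun g => pres qSet g && actA.any (fun a => leq (cmp g a) tau) &&
    [4, 5, 8, 9, 12, 13].any (fun z => [3, 6, 10, 14].any (Nat.beq (ap g z))) &&
    !(Nat.beq (ap g 3) 3 && leq (cmp g wA) (cmp wA g))) = true := by decide +kernel

theorem surv_u : allC 3 (fun g => pres qSet' g) = true := by decide +kernel

theorem surv_d : allC 4 (fun _ => false) = true := by decide +kernel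

end Cfsg.Agent.Invol.PSp43
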