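import Cfsg.Agent.Lib.Invol.PSp43.Base
import Cfsg.Agent.Lib.Invol.PSp43.Surv

/-! The elementary abelian group of order 16 and its normaliser. -/

set_option autoImplicit false
set_option linter.unusedSectionVars false
set_option linter.style.haveILetI false

namespace Cfsg.Agent.Invol.PSp43

theorem xor_assoc16 {a b c : ℕ} : Nat.xor (Nat.xor a b) c = Nat.xor a (Nat.xor b c) := Nat.xor_assoc a b c

theorem ap_basis : ∀ x < 16, x = ap lid x := by decide +kernel

theorem tau_lt : tau.1 < 16 ∧ tau.2.1 < 16 ∧ tau.2.2.1 < 16 ∧ tau.2.2.2 < 16 := by decide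

theorem ap_lt {g : Lin} (hg : g.1 < 16 ∧ g.2.1 < 16 ∧ g.2.2.1 < 16 ∧ g.2.2.2 < 16) (x : ℕ) : ap g x < 16 := by
  obtain ⟨h1, h2, h3, h4⟩ := hg
  have key : ∀ (b : Bool) {v : ℕ}, v < 16 → (bif b then v else 0) < 16 := fun b v hv => by
    cases b
    · show (0 : ℕ) < 16; norm_num
    · exact hv
  exact xor_lt (xor_lt (key _ h1) (key _ h2)) (xor_lt (key _ h3) (key _ h4))

variable {G : Type*} [Group G] (h : Setting G)

namespace Setting

/-- The elements of the elementary abelian group, in coordinates. -/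
def E' (x : ℕ) : G := h.e (eI x)

theorem E'_mul {x y : ℕ} (hx : x < 16) (hy : y < 16) : h.E' x * h.E' y = h.E' (Nat.xor x y) := by
  rw [E', E', E', ← h.mul _ (eI_lt hx) _ (eI_lt hy), (eI_mul hx hy).1]

theorem E'_inj {x y : ℕ} (hx : x < 16) (hy : y < 16) (e : h.E' x = h.E' y) : x = y :=
  (eI_mul hx hy).2 ((h.e_eq_iff (eI_lt hx) (eI_lt hy)).1 e)

theorem E'_zero : h.E' 0 = 1 := by rw [E', el_consts.1, h.e_zero]

theorem E'_one : h.E' 1 = h.e tI := by rw [E', el_consts.2.1]

theorem E'_two : h.E' 2 = h.e sI := by rw [E', el_consts.2.2.1]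

theorem E'_three : h.E' 3 = h.e uI := by rw [E', el_consts.2.2.2.1]

theorem E'_four : h.E' 4 = h.e dI := by rw [E', el_consts.2.2.2.2]

theorem E'_sq {x : ℕ} (hx : x < 16) : h.E' x * h.E' x = 1 := by
  rw [h.E'_mul hx hx, show Nat.xor x x = 0 from Nat.xor_self x, h.E'_zero]

theorem E'_inv {x : ℕ} (hx : x < 16) : (h.E' x)⁻¹ = h.E' x := inv_eq_of_mul_eq_one_right (h.E'_sq hx)

theorem E'_comm {x y : ℕ} (hx : x < 16) (hy : y < 16) : h.E' x * h.E' y = h.E' y * h.E' x := by
  rw [h.E'_mul hx hy, h.E'_mul hy hx, show Nat.xor x y = Nat.xor y x from Nat.xor_comm x y]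

/-- The elementary abelian subgroup of order 16. -/
def EE : Subgroup G where
  carrier := {y | ∃ x < 16, h.E' x = y}
  one_mem' := ⟨0, by norm_num, h.E'_zero⟩
  mul_mem' := by
    rintro _ _ ⟨x, hx, rfl⟩ ⟨y, hy, rfl⟩
    exact ⟨_, xor_lt hx hy, (h.E'_mul hx hy).symm⟩
  inv_mem' := by
    rintro _ ⟨x, hx, rfl⟩
    exact ⟨x, hx, (h.E'_inv hx).symm⟩

theorem mem_EE {y : G} : y ∈ h.EE ↔ ∃ x < 16, h.E' x = y := Iff.rfl

theorem E'_mem {x : ℕ} (hx : x < 16) : h.E' x ∈ h.EE := ⟨x, hx, rfl⟩

theorem card_EE [Finite G] : Nat.card h.EE = 16 := by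
  have hb : Function.Bijective fun x : Fin 16 => (⟨h.E' x, h.E'_mem x.2⟩ : h.EE) := by
    refine ⟨fun x y e => Fin.ext (h.E'_inj x.2 y.2 (congrArg Subtype.val e)), fun y => ?_⟩
    obtain ⟨x, hx, e⟩ := h.mem_EE.1 y.2
    exact ⟨⟨x, hx⟩, Subtype.ext e⟩
  rw [← Nat.card_congr (Equiv.ofBijective _ hb), Nat.card_fin]

theorem EE_comm_t {y : G} (hy : y ∈ h.EE) : y * h.e tI = h.e tI * y := by
  obtain ⟨x, hx, rfl⟩ := hy
  exact h.e_comm_t (eI_lt hx)

theorem e_mem_EE {i : ℕ} (hi : i < 576) (hin : inEl i = true) : h.e i ∈ h.EE := by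
  obtain ⟨x, hx, rfl⟩ := inEl_iff.1 hin
  exact h.E'_mem hx

/-- An elementary abelian subgroup of order 16 of the centraliser. -/
theorem elem_conj [Finite G] (A : Subgroup G) (hA : Nat.card A = 16) (hsq : ∀ a ∈ A, a * a = 1)
    (hC : ∀ a ∈ A, a * h.e tI = h.e tI * a) :
    ∃ k < 576, ∀ a ∈ A, h.e k * a * (h.e k)⁻¹ ∈ h.EE := by
  classical
  have hcomm : ∀ a ∈ A, ∀ b ∈ A, a * b = b * a := fun a ha b hb => by
    have e1 := hsq _ (mul_mem ha hb)
    calc a * b = (a * b)⁻¹ := (inv_eq_of_mul_eq_one_right e1).symm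
      _ = b * a := by
        rw [mul_inv_rev, inv_eq_of_mul_eq_one_right (hsq a ha), inv_eq_of_mul_eq_one_right (hsq b hb)]
  have hidx : ∀ a ∈ A, ∃ i < 576, h.e i = a ∧ mL i i = 0 := fun a ha => by
    obtain ⟨i, hi, rfl⟩ := h.mem_cent (hC a ha)
    exact ⟨i, hi, rfl, (h.sq_one hi).1 (hsq _ ha)⟩
  by_cases hout : ∃ i < 576, h.e i ∈ A ∧ se i = 1
  · obtain ⟨i, hi, hiA, hsi⟩ := hout
    have hsq0 : mL i i = 0 := (h.sq_one hi).1 (hsq _ hiA)
    have hcl : cl i = 3 ∨ cl i = 4 := by
      have := cls_se_ok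
      simp only [List.all_eq_true, List.mem_range, Bool.or_eq_true, Bool.not_eq_true', ← Bool.not_eq_true,
        beq_iff] at this
      rcases this i hi with ((e | e) | e) | e
      · exact absurd hsq0 e
      · exact absurd hsi e
      · exact Or.inl e
      · exact Or.inr e
    obtain ⟨k, hk, hki⟩ : ∃ k < 576, cj k i = sI ∨ cj k i = uI := by
      have := orbit_ok
      simp only [List.all_eq_true, List.any_eq_true, List.mem_range, Bool.and_eq_true, Bool.or_eq_true,
        Bool.not_eq_true', beq_iff, ← Bool.not_eq_true] at this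
      obtain ⟨⟨-, b⟩, c⟩ := this i hi
      rcases hcl with e | e
      · obtain ⟨k, hk, r⟩ := b.resolve_left fun n => n e
        exact ⟨k, hk, Or.inl r⟩
      · obtain ⟨k, hk, r⟩ := c.resolve_left fun n => n e
        exact ⟨k, hk, Or.inr r⟩
    refine ⟨k, hk, fun a ha => ?_⟩
    obtain ⟨j, hj, rfl, hj0⟩ := hidx a ha
    rw [h.conj_e hk hj]
    refine h.e_mem_EE (cj_lt k j) ?_
    have := cent_s_ok
    simp only [List.all_eq_true, List.mem_range, Bool.or_eq_true, Bool.not_eq_true', ← Bool.not_eq_true,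
      beq_iff] at this
    have hc : com (cj k j) (cj k i) = true := by
      rw [← h.com_iff (cj_lt k j) (cj_lt k i), ← h.conj_e hk hj, ← h.conj_e hk hi]
      calc h.e k * h.e j * (h.e k)⁻¹ * (h.e k * h.e i * (h.e k)⁻¹) = h.e k * (h.e j * h.e i) * (h.e k)⁻¹ := by group
        _ = h.e k * (h.e i * h.e j) * (h.e k)⁻¹ := by rw [hcomm _ ha _ hiA]
        _ = _ := by group
    have hsq' : mL (cj k j) (cj k j) = 0 := by
      rw [← h.sq_one (cj_lt k j), ← h.conj_e hk hj]
      calc _ = h.e k * (h.e j * h.e j) * (h.e k)⁻¹ := by group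
        _ = 1 := by rw [hsq _ ha]; group
    rcases this _ (cj_lt k j) with (e | e) | e
    · exact absurd hsq' e
    · exfalso
      rcases hki with r | r
      · exact e (Or.inl (r ▸ hc))
      · exact e (Or.inr (r ▸ hc))
    · exact e
  · exfalso
    push Not at hout
    have hse : ∀ i < 576, h.e i ∈ A → se i = 0 := fun i hi ha => by
      have h1 := hout i hi ha; have := se_lt i; omega
    by_cases hv : ∃ i < 576, h.e i ∈ A ∧ cl i = 2
    · obtain ⟨i, hi, hiA, hcl⟩ := hv
      have := orbit_ok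
      simp only [List.all_eq_true, List.any_eq_true, List.mem_range, Bool.and_eq_true, Bool.or_eq_true,
        Bool.not_eq_true', beq_iff, ← Bool.not_eq_true] at this
      obtain ⟨k, hk, hki⟩ := (this i hi).1.1.resolve_left fun n => n hcl
      let L := (List.range 576).filter fun j => Nat.beq (mL j j) 0 && Nat.beq (se j) 0 && com j dI
      have hlen : L.length < 16 := by
        rw [show L.length = (List.range 576).countP fun j => Nat.beq (mL j j) 0 && Nat.beq (se j) 0 && com j dI from
          (List.countP_eq_length_filter).symm]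
        exact cent_d_ok
      have hin : ∀ a : A, ∃ j, j ∈ L ∧ j < 576 ∧ h.e j = h.e k * (a : G) * (h.e k)⁻¹ := by
        intro a
        obtain ⟨j, hj, hja, hj0⟩ := hidx a a.2
        refine ⟨cj k j, List.mem_filter.2 ⟨List.mem_range.2 (cj_lt k j), ?_⟩, cj_lt k j, by rw [← h.conj_e hk hj, hja]⟩
        simp only [Bool.and_eq_true, beq_iff]
        refine ⟨⟨?_, ?_⟩, ?_⟩
        · rw [← h.sq_one (cj_lt k j), ← h.conj_e hk hj, hja]
          calc _ = h.e k * ((a : G) * a) * (h.e k)⁻¹ := by group
            _ = 1 := by rw [hsq _ a.2]; group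
        · have hs := se_conj_ok
          simp only [List.all_eq_true, List.mem_range, Bool.or_eq_true, Bool.not_eq_true', ← Bool.not_eq_true,
            beq_iff] at hs
          rw [(hs k hk j hj).resolve_left fun n => n hj0]
          exact hse j hj (hja ▸ a.2)
        · rw [← hki, ← h.com_iff (cj_lt k j) (cj_lt k i), ← h.conj_e hk hj, ← h.conj_e hk hi, hja]
          calc h.e k * (a : G) * (h.e k)⁻¹ * (h.e k * h.e i * (h.e k)⁻¹) = h.e k * ((a : G) * h.e i) * (h.e k)⁻¹ := by group
            _ = h.e k * (h.e i * a) * (h.e k)⁻¹ := by rw [hcomm _ a.2 _ hiA]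
            _ = _ := by group
      choose f hf hflt hfe using hin
      have hinj : Function.Injective fun a : A => (⟨f a, List.mem_toFinset.2 (hf a)⟩ : L.toFinset) := by
        intro a b e
        have e' : f a = f b := congrArg Subtype.val e
        have := (hfe a).symm.trans ((congrArg h.e e').trans (hfe b))
        exact Subtype.ext (mul_left_cancel (mul_right_cancel this))
      have := Nat.card_le_card_of_injective _ hinj
      rw [hA, Nat.card_eq_fintype_card, Fintype.card_coe] at this
      have := List.toFinset_card_le L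
      omega
    · push Not at hv
      have hsub : ∀ a : A, (a : G) = 1 ∨ (a : G) = h.e tI := fun a => by
        obtain ⟨j, hj, hja, hj0⟩ := hidx a a.2
        by_cases hj1 : j = 0
        · left; rw [← hja, hj1, h.e_zero]
        · right
          rw [← hja]
          have h1 : cl j ≠ 0 := fun e => ((cl_spec hj).2.1.1 e).elim hj1 (fun n => n hj0)
          rcases h.cls_rep hj h1 with ⟨-, e⟩ | ⟨-, e⟩ | ⟨-, e⟩ | ⟨-, e⟩
          · rw [(cl_spec hj).2.2.1 e]
          · exact absurd e (hv j hj (hja ▸ a.2))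
          all_goals
            exfalso
            have := hse j hj (hja ▸ a.2)
            have h3 : se j = 1 := by
              simp only [cl, this] at e
              revert e
              cases Nat.beq j 0 || !(Nat.beq (mL j j) 0) <;> cases Nat.beq j 12 <;> simp
            omega
      have : Nat.card A ≤ Nat.card Bool := Nat.card_le_card_of_injective
        (fun a : A => decide ((a : G) = h.e tI)) (fun a b e => by
          have e' := decide_eq_decide.1 e
          rcases hsub a with x | x <;> rcases hsub b with y | y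
          · exact Subtype.ext (x.trans y.symm)
          · exact Subtype.ext ((e'.2 y).trans y.symm)
          · exact Subtype.ext (x.trans (e'.1 x).symm)
          · exact Subtype.ext (x.trans y.symm))
      rw [hA, Nat.card_eq_fintype_card, Fintype.card_bool] at this
      omega

end Setting

end Cfsg.Agent.Invol.PSp43
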